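import Cfsg.Agent.H851.Dg.AsmFin
import Cfsg.Agent.H779.Dg.E8
import Cfsg.Agent.H779.Dg.E7
import Cfsg.Agent.H779.Dg.E6
import Cfsg.Agent.H819.Dg.ExcF
import Cfsg.Agent.H819.Dg.ExcD4
import Cfsg.Agent.H41.Dg.SzRee

/-!
# S5734: the rows of the exceptional groups
-/

set_option autoImplicit false

namespace Cfsg.Agent.H851.Dg

open Cfsg Cfsg.Agent.OrdDiv Cfsg.Agent.H436 Cfsg.Agent.H290.ElEng Cfsg.Agent.H290.ElRich Cfsg.Agent.H598.ExcFth

/-- **The exceptional groups.** -/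
theorem excRow_of (tab : OrderTable.{0})
    (hK : ∀ (X : Type) [Group X] [Finite X] [IsSimpleGroup X], IsKnownSimple' X) (has : ASThm.{0}) (hrf : RichFix.{0})
    (hft : ∀ (X : Type) [Group X] [Finite X], ¬ Group.IsSolvable X → 2 ∣ Nat.card X) (hname : NameRow) : ExcRow := by
  obtain ⟨b1, h1⟩ := H779.Dg.exc_e8
  obtain ⟨b2, h2⟩ := H779.Dg.exc_e7
  obtain ⟨b3, h3⟩ := H779.Dg.exc_e6
  obtain ⟨b4, h4⟩ := H779.Dg.exc_te6
  obtain ⟨b5, h5⟩ := H819.Dg.exc_g2 has hrf hft hname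
  obtain ⟨b6, h6⟩ := H819.Dg.exc_f4 has hrf hft hname
  obtain ⟨b7, h7⟩ := H819.Dg.exc_tf4 has hrf hft hname
  obtain ⟨b8, h8⟩ := H819.Dg.exc_td4 has hrf hft hname
  refine ⟨b1 + b2 + b3 + b4 + b5 + b6 + b7 + b8, fun g T _ _ hT hg hB R hR => ?_⟩
  cases g with
  | e8 q => exact Or.inl (h1 tab hK has hrf hT (by omega) R hR)
  | e7 q => exact Or.inl (h2 tab hK has hrf hT (by omega) R hR)
  | e6 q => exact Or.inl (h3 tab hK has hrf hT (by omega) R hR)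
  | te6 q => exact Or.inl (h4 tab hK has hrf hT (by omega) R hR)
  | g2 q => exact Or.inl (h5 hT (by omega) R hR)
  | f4 q => exact Or.inl (h6 hT (by omega) R hR)
  | tf4 q => exact Or.inl (h7 hT (by omega) R hR)
  | td4 q => exact h8 hT (by omega) R hR
  | sz q => exact Or.inl (H41.DgExc.exc_sz hT.real R hR)
  | ree q => exact Or.inl (H41.DgExc.exc_ree hT.real R hR)
  | _ => exact hg.elim

end Cfsg.Agent.H851.Dg
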