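import Cfsg.Agent.H851.Dg.Big

/-!
# S5734: the counting lemma

`sing_core` : `H` finite with cyclic `u`-subgroups, `x` of order `u`, `|N(x) : C(x)| ≤ k`, `u ^ j ∣ |H|`, `1 ≤ j`:
`|H| ≤ 2 k #{h : u ^ j ∣ orderOf h}`.
-/

set_option autoImplicit false

namespace Cfsg.Agent.H851.Dg

open Subgroup

section Central

variable {C : Type*} [Group C] [Finite C] {u : ℕ} [Fact u.Prime]

theorem mem_sylow_of_central {x : C} (hx : orderOf x = u) (hxc : ∀ c : C, c * x = x * c) (P : Sylow u C) : x ∈ P := by
  have h1 : IsPGroup u (zpowers x) := by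
    rw [IsPGroup.iff_card]
    exact ⟨1, by rw [Nat.card_zpowers, hx, pow_one]⟩
  have h2 : (P : Subgroup C) ≤ (P : Subgroup C) ⊔ zpowers x := le_sup_left
  have h3 : IsPGroup u ((P : Subgroup C) ⊔ zpowers x : Subgroup C) := by
    have : (zpowers x).Normal := ⟨fun n hn g => by
      obtain ⟨k, rfl⟩ := mem_zpowers_iff.1 hn
      have : g * x ^ k * g⁻¹ = x ^ k := by
        have h : Commute g x := hxc g
        rw [(h.zpow_right k).eq, mul_inv_cancel_right]
      rw [this]
      exact zpow_mem (mem_zpowers x) k⟩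
    exact P.isPGroup'.to_sup_of_normal_right h1
  have h4 := P.is_maximal' h3 h2
  have h5 : x ∈ (P : Subgroup C) := by
    rw [← h4]
    exact (le_sup_right : zpowers x ≤ (P : Subgroup C) ⊔ zpowers x) (mem_zpowers x)
  exact h5

/-- the condition of Burnside's theorem -/
theorem norm_le_cent (hcyc : CycP u C) {x : C} (hx : orderOf x = u) (hxc : ∀ c : C, c * x = x * c) (P : Sylow u C) :
    normalizer (P : Set C) ≤ centralizer (P : Set C) := by
  have hu : u.Prime := Fact.out
  intro n hn
  have := hcyc P P.isPGroup'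
  obtain ⟨⟨y, hyP⟩, hy⟩ := IsCyclic.exists_generator (α := P)
  have hy' : ∀ z ∈ P, z ∈ zpowers y := fun z hz => by
    obtain ⟨k, hk⟩ := mem_zpowers_iff.1 (hy ⟨z, hz⟩)
    exact mem_zpowers_iff.2 ⟨k, congrArg Subtype.val hk⟩
  obtain ⟨J, hJ⟩ := P.isPGroup'.exists_card_eq
  have hoy : orderOf y = u ^ J := by
    rw [← hJ, ← Nat.card_zpowers]
    congr 1
    have : zpowers y = (P : Subgroup C) := le_antisymm (by
      rw [zpowers_le]; exact hyP) hy'
    rw [this]
  -- `n y n⁻¹ = y ^ k`
  have h1 : n * y * n⁻¹ ∈ P := (mem_normalizer_iff.1 hn y).1 hyP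
  have h1' := hy' _ h1
  rw [← mem_powers_iff_mem_zpowers] at h1'
  obtain ⟨k, hk⟩ := (Submonoid.mem_powers_iff _ _).1 h1'
  -- `k ≡ 1` modulo `u`
  have hxP := mem_sylow_of_central hx hxc P
  have h2 := hy' _ hxP
  rw [← mem_powers_iff_mem_zpowers] at h2
  obtain ⟨a, ha⟩ := (Submonoid.mem_powers_iff _ _).1 h2
  have h3 : x ^ k = x := by
    calc x ^ k = (y ^ a) ^ k := by rw [ha]
      _ = (y ^ k) ^ a := by rw [← pow_mul, ← pow_mul, mul_comm]
      _ = n * y ^ a * n⁻¹ := by rw [hk, conj_pow]
      _ = x := by rw [ha, hxc n, mul_inv_cancel_right]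
  have h4 : k ≡ 1 [MOD u] := by
    have : x ^ k = x ^ 1 := by rw [h3, pow_one]
    rw [pow_eq_pow_iff_modEq, hx] at this
    exact this
  have h5 : (k : ZMod (u ^ J)) ^ u ^ J = 1 := by
    have h6 : (u : ℤ) ∣ (k : ℤ) - 1 := by
      have := (Nat.modEq_iff_dvd.1 h4.symm)
      push_cast at this
      exact this
    have h7 := dvd_sub_pow_of_dvd_sub h6 J
    have h8 : ((u ^ J : ℕ) : ℤ) ∣ (k : ℤ) ^ u ^ J - 1 ^ u ^ J := (Dvd.intro _ (by push_cast; rw [pow_succ])).trans h7
    rw [← ZMod.intCast_zmod_eq_zero_iff_dvd] at h8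
    push_cast at h8
    rw [one_pow] at h8
    exact sub_eq_zero.1 h8
  -- the `u'`-part
  obtain ⟨a', b, hb, hab⟩ := Nat.exists_eq_pow_mul_and_not_dvd (orderOf_pos n).ne' u hu.ne_one
  have h9 : n ^ b ∈ P := by
    have h10 : IsPGroup u (zpowers (n ^ b)) := by
      intro ⟨z, hz⟩
      obtain ⟨i, rfl⟩ := mem_zpowers_iff.1 hz
      refine ⟨a', Subtype.ext ?_⟩
      change ((n ^ b) ^ i) ^ u ^ a' = 1
      rw [← zpow_natCast ((n ^ b) ^ i), ← zpow_mul, mul_comm, zpow_mul, zpow_natCast, ← pow_mul, mul_comm b,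
        ← hab, pow_orderOf_eq_one, one_zpow]
    have h11 := h10.inf_normalizer_sylow P
    have h12 : n ^ b ∈ zpowers (n ^ b) ⊓ (P : Subgroup C) := by
      rw [← h11]
      exact ⟨mem_zpowers _, pow_mem hn b⟩
    exact h12.2
  have h13 : ∀ m : ℕ, n ^ m * y * (n ^ m)⁻¹ = y ^ k ^ m := by
    intro m
    induction m with
    | zero => simp
    | succ m ih =>
      calc n ^ (m + 1) * y * (n ^ (m + 1))⁻¹ = n * (n ^ m * y * (n ^ m)⁻¹) * n⁻¹ := by rw [pow_succ']; group
        _ = n * y ^ k ^ m * n⁻¹ := by rw [ih]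
        _ = (n * y * n⁻¹) ^ k ^ m := by rw [conj_pow]
        _ = y ^ k ^ (m + 1) := by rw [← hk, ← pow_mul, pow_succ']
  have h14 : y ^ k ^ b = y ^ 1 := by
    rw [← h13, pow_one]
    obtain ⟨i, hi⟩ := mem_zpowers_iff.1 (hy' _ h9)
    rw [← hi]
    have : Commute (y ^ i) y := (Commute.refl y).zpow_left i
    rw [this.eq, mul_inv_cancel_right]
  rw [pow_eq_pow_iff_modEq, hoy] at h14
  have h15 : (k : ZMod (u ^ J)) ^ b = 1 := by
    have := (ZMod.natCast_eq_natCast_iff _ _ _).2 h14
    push_cast at this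
    exact this
  have h16 : (k : ZMod (u ^ J)) = 1 := by
    have h17 := orderOf_dvd_of_pow_eq_one h5
    have h18 := orderOf_dvd_of_pow_eq_one h15
    have h19 : Nat.Coprime (u ^ J) b := Nat.Coprime.pow_left _ ((Nat.Prime.coprime_iff_not_dvd hu).2 hb)
    have h20 := Nat.dvd_gcd h17 h18
    rw [h19] at h20
    exact orderOf_eq_one_iff.1 (Nat.dvd_one.1 h20)
  have h21 : y ^ k = y := by
    have : k ≡ 1 [MOD orderOf y] := by
      rw [hoy, ← ZMod.natCast_eq_natCast_iff]
      push_cast
      exact h16
    have := pow_eq_pow_iff_modEq.2 this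
    rwa [pow_one] at this
  rw [mem_centralizer_iff]
  intro z hz
  obtain ⟨i, rfl⟩ := mem_zpowers_iff.1 (hy' z hz)
  have h22 : Commute n y := by
    have : n * y * n⁻¹ = y := by rw [← hk, h21]
    exact mul_inv_eq_iff_eq_mul.1 this
  exact (h22.zpow_right i).eq.symm

/-- half of the elements of `C` have order divisible by `u ^ j` -/
theorem half_central (hcyc : CycP u C) {x : C} (hx : orderOf x = u) (hxc : ∀ c : C, c * x = x * c) {j : ℕ}
    (hj : 1 ≤ j) (hd : u ^ j ∣ Nat.card C) :
    Nat.card C ≤ 2 * Nat.card {c : C // u ^ j ∣ orderOf c} := by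
  classical
  have hu : u.Prime := Fact.out
  obtain ⟨P⟩ := (inferInstance : Nonempty (Sylow u C))
  have hP := norm_le_cent hcyc hx hxc P
  let f := MonoidHom.transferSylow P hP
  have := hcyc P P.isPGroup'
  obtain ⟨J, hJ⟩ := P.isPGroup'.exists_card_eq
  have hcompl := MonoidHom.ker_transferSylow_isComplement' P hP
  have hcard : Nat.card f.ker * Nat.card P = Nat.card C := hcompl.card_mul_card
  have hJj : j ≤ J := by
    have h1 := P.pow_dvd_card_of_pow_dvd_card hd
    rw [hJ] at h1
    exact (Nat.pow_dvd_pow_iff_le_right hu.one_lt).1 h1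
  -- the bad elements
  have : Fintype C := Fintype.ofFinite C
  have : Fintype P := Fintype.ofFinite P
  have h1 : ∀ c : C, ¬ u ^ j ∣ orderOf c → f c ^ u ^ (j - 1) = 1 := by
    intro c hc
    obtain ⟨i, hi, hi'⟩ := (Nat.dvd_prime_pow hu).1 (show orderOf (f c) ∣ u ^ J by
      rw [← hJ]; exact orderOf_dvd_natCard _)
    have h2 : i ≤ j - 1 := by
      by_contra hcon
      refine hc ?_
      have h3 : u ^ j ∣ orderOf (f c) := by
        rw [hi']
        exact pow_dvd_pow _ (by omega)
      exact h3.trans (orderOf_map_dvd f c)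
    exact orderOf_dvd_iff_pow_eq_one.1 (by rw [hi']; exact pow_dvd_pow _ h2)
  have hfib : ∀ b : P, (Finset.univ.filter fun c : C => f c = b).card ≤ Nat.card f.ker := by
    intro b
    rcases (Finset.univ.filter fun c : C => f c = b).eq_empty_or_nonempty with h | ⟨a, ha⟩
    · rw [h, Finset.card_empty]
      exact Nat.zero_le _
    · rw [Nat.card_eq_fintype_card, ← Finset.card_univ]
      have ha' : f a = b := (Finset.mem_filter.1 ha).2
      refine Finset.card_le_card_of_injOn (fun c => if h : f c = b then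
        (⟨a⁻¹ * c, by rw [MonoidHom.mem_ker, map_mul, map_inv, ha', h, inv_mul_cancel]⟩ : f.ker) else 1)
        (fun c _ => Finset.mem_coe.2 (Finset.mem_univ _)) fun c hc d hd h => ?_
      have hc' : f c = b := (Finset.mem_filter.1 hc).2
      have hd' : f d = b := (Finset.mem_filter.1 hd).2
      simp only [hc', hd', dif_pos] at h
      exact mul_left_cancel (Subtype.mk.inj h)
  have hbad : (Finset.univ.filter fun c : C => ¬ u ^ j ∣ orderOf c).card ≤ Nat.card f.ker * u ^ (j - 1) := by
    refine (Finset.card_le_mul_card_image_of_maps_to (f := f)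
      (t := Finset.univ.filter fun y : P => y ^ u ^ (j - 1) = 1) (fun c hc => ?_) (Nat.card f.ker)
      (fun b _ => ?_)).trans (Nat.mul_le_mul_left _ (IsCyclic.card_pow_eq_one_le (pow_pos hu.pos _)))
    · exact Finset.mem_filter.2 ⟨Finset.mem_univ _, h1 c (Finset.mem_filter.1 hc).2⟩
    · refine (Finset.card_le_card ?_).trans (hfib b)
      intro c hc
      exact Finset.mem_filter.2 ⟨Finset.mem_univ _, (Finset.mem_filter.1 hc).2⟩
  have hsum := Finset.card_filter_add_card_filter_not (s := (Finset.univ : Finset C)) (fun c => u ^ j ∣ orderOf c)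
  rw [Finset.card_univ, ← Nat.card_eq_fintype_card] at hsum
  rw [Nat.card_eq_fintype_card (α := {c : C // u ^ j ∣ orderOf c}), Fintype.card_subtype]
  have h2 : 2 * (Nat.card f.ker * u ^ (j - 1)) ≤ Nat.card C := by
    rw [← hcard, hJ]
    have h3 : 2 * u ^ (j - 1) ≤ u ^ J := by
      calc 2 * u ^ (j - 1) ≤ u * u ^ (j - 1) := Nat.mul_le_mul_right _ hu.two_le
        _ = u ^ j := by rw [← pow_succ']; congr 1; omega
        _ ≤ u ^ J := Nat.pow_le_pow_right hu.pos hJj
    calc 2 * (Nat.card f.ker * u ^ (j - 1)) = Nat.card f.ker * (2 * u ^ (j - 1)) := by ring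
      _ ≤ Nat.card f.ker * u ^ J := Nat.mul_le_mul_left _ h3
  omega

end Central

section Core

variable {H : Type*} [Group H] [Finite H] {u : ℕ} [Fact u.Prime]

theorem CycP.of_le {G : Type*} [Group G] {v : ℕ} (h : CycP v G) (K : Subgroup G) : CycP v K := by
  intro P hP
  have h1 : IsPGroup v (P.map K.subtype) := hP.map _
  have := h _ h1
  exact isCyclic_of_surjective _ (P.equivMapOfInjective K.subtype K.subtype_injective).symm.surjective

theorem CycP.of_injective {G G' : Type*} [Group G] [Group G'] {v : ℕ} (h : CycP v G') (f : G →* G')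
    (hf : Function.Injective f) : CycP v G := by
  intro P hP
  have h1 : IsPGroup v (P.map f) := hP.map _
  have := h _ h1
  exact isCyclic_of_surjective _ (P.equivMapOfInjective f hf).symm.surjective

/-- commuting elements of order `u` generate the same subgroup -/
theorem zpowers_eq_of_commute (hcyc : CycP u H) {x z : H} (hx : orderOf x = u) (hz : orderOf z = u)
    (hxz : Commute x z) : z ∈ zpowers x := by
  classical
  have hu : u.Prime := Fact.out
  have h1 : ∀ {w : H}, orderOf w = u → IsPGroup u (zpowers w) := fun {w} hw => by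
    rw [IsPGroup.iff_card]
    exact ⟨1, by rw [Nat.card_zpowers, hw, pow_one]⟩
  have h2 : IsPGroup u (zpowers z ⊔ zpowers x : Subgroup H) := by
    refine (h1 hz).to_sup_of_normal_right' (h1 hx) ?_
    rw [zpowers_le, mem_normalizer_iff]
    intro w
    have key : ∀ w : H, w ∈ zpowers x → Commute z w := fun w hw => by
      obtain ⟨i, rfl⟩ := mem_zpowers_iff.1 hw
      exact (hxz.symm).zpow_right i
    constructor
    · intro hw
      rw [(key w hw).eq, mul_inv_cancel_right]
      exact hw
    · intro hw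
      have h3 := key _ hw
      have h4 : z⁻¹ * (z * w * z⁻¹) * z = z * w * z⁻¹ := by
        rw [mul_assoc, h3.symm.eq, ← mul_assoc, inv_mul_cancel, one_mul]
      have h5 : z⁻¹ * (z * w * z⁻¹) * z = w := by group
      rw [← h5, h4]
      exact hw
  have h3 := hcyc _ h2
  let Q : Subgroup H := zpowers z ⊔ zpowers x
  have : Fintype Q := Fintype.ofFinite Q
  have : IsCyclic Q := h3
  by_contra hcon
  have h4 := IsCyclic.card_pow_eq_one_le (α := Q) hu.pos
  have : Fintype (zpowers x) := Fintype.ofFinite _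
  let g : Option (zpowers x) → Q := fun o => match o with
    | none => ⟨z, (le_sup_left : zpowers z ≤ Q) (mem_zpowers z)⟩
    | some w => ⟨w.1, (le_sup_right : zpowers x ≤ Q) w.2⟩
  have hg : Function.Injective g := by
    intro a b hab
    rcases a with _ | a <;> rcases b with _ | b
    · rfl
    · exact absurd (by rw [show z = b.1 from congrArg Subtype.val hab]; exact b.2) hcon
    · exact absurd (by rw [show z = a.1 from (congrArg Subtype.val hab).symm]; exact a.2) hcon
    · have hab' : a.1 = b.1 := congrArg (fun q : Q => (q : H)) hab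
      exact congrArg some (Subtype.ext hab')
  have h5 : (Finset.univ.image g).card ≤ (Finset.univ.filter fun a : Q => a ^ u = 1).card := by
    refine Finset.card_le_card ?_
    intro a ha
    obtain ⟨o, -, rfl⟩ := Finset.mem_image.1 ha
    refine Finset.mem_filter.2 ⟨Finset.mem_univ _, Subtype.ext ?_⟩
    rcases o with _ | w
    · change z ^ u = 1
      rw [← hz, pow_orderOf_eq_one]
    · change (w.1) ^ u = 1
      obtain ⟨i, hi⟩ := mem_zpowers_iff.1 w.2
      rw [← hi, ← zpow_natCast, ← zpow_mul, mul_comm, zpow_mul, zpow_natCast, ← hx, pow_orderOf_eq_one, one_zpow]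
  rw [Finset.card_image_of_injective _ hg, Finset.card_univ, Fintype.card_option, ← Nat.card_eq_fintype_card,
    Nat.card_zpowers, hx] at h5
  omega

/-- **The counting lemma.** -/
theorem sing_core (hcyc : CycP u H) {x : H} (hx : orderOf x = u) {k : ℕ}
    (hk : Nat.card (normalizer (zpowers x : Set H)) ≤ k * Nat.card (centralizer ({x} : Set H))) {j : ℕ} (hj : 1 ≤ j)
    (hd : u ^ j ∣ Nat.card H) : Nat.card H ≤ 2 * k * Nat.card {h : H // u ^ j ∣ orderOf h} := by
  classical
  have hu : u.Prime := Fact.out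
  set C := centralizer ({x} : Set H) with hC
  set N := normalizer (zpowers x : Set H) with hN
  have hxC : x ∈ C := by
    rw [hC, mem_centralizer_singleton_iff]
  have hcC : ∀ c : C, c * (⟨x, hxC⟩ : C) = ⟨x, hxC⟩ * c := fun c =>
    Subtype.ext (mem_centralizer_singleton_iff.1 c.2)
  -- `u ^ j ∣ |C|`
  have h1 : IsPGroup u (zpowers x) := by
    rw [IsPGroup.iff_card]
    exact ⟨1, by rw [Nat.card_zpowers, hx, pow_one]⟩
  obtain ⟨P, hP⟩ := h1.exists_le_sylow
  have hxP : x ∈ P := hP (mem_zpowers x)
  have hPC : (P : Subgroup H) ≤ C := by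
    intro y hy
    have := hcyc P P.isPGroup'
    rw [hC, mem_centralizer_singleton_iff]
    have hcomm : ∀ a b : P, a * b = b * a := fun a b => IsMulCommutative.is_comm.comm a b
    exact congrArg Subtype.val (hcomm ⟨y, hy⟩ ⟨x, hxP⟩)
  have hdC : u ^ j ∣ Nat.card C := (P.pow_dvd_card_of_pow_dvd_card hd).trans (card_dvd_of_le hPC)
  have hhalf := half_central (hcyc.of_le C) (x := ⟨x, hxC⟩) (by rw [Subgroup.orderOf_mk, hx]) hcC hj hdC
  -- `x` is a power of every good element of `C`
  have hgood : ∀ c : C, u ^ j ∣ orderOf c → x ∈ zpowers (c : H) := by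
    intro c hc
    have h2 : u ∣ orderOf (c : H) := by
      rw [Subgroup.orderOf_coe]
      exact (dvd_pow_self u (by omega)).trans hc
    obtain ⟨m, hm⟩ := h2
    have hm0 : m ≠ 0 := by
      rintro rfl
      have := orderOf_pos (c : H)
      omega
    have h3 : orderOf ((c : H) ^ m) = u := by
      rw [orderOf_pow_of_dvd hm0 (by rw [hm]; exact dvd_mul_left _ _), hm]
      exact Nat.mul_div_cancel _ (Nat.pos_of_ne_zero hm0)
    have h4 : Commute ((c : H) ^ m) x := (show Commute (c : H) x from mem_centralizer_singleton_iff.1 c.2).pow_left m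
    exact zpowers_le.2 (pow_mem (mem_zpowers _) m) (zpowers_eq_of_commute hcyc h3 hx h4)
  -- the injection
  have hinj : Nat.card (H ⧸ N) * Nat.card {c : C // u ^ j ∣ orderOf c} ≤ Nat.card {h : H // u ^ j ∣ orderOf h} := by
    rw [← Nat.card_prod]
    have hord : ∀ g c : H, orderOf (g * c * g⁻¹) = orderOf c := fun g c => by
      have := orderOf_injective (MulAut.conj g).toMonoidHom (MulAut.conj g).injective c
      simpa using this
    refine Nat.card_le_card_of_injective (fun qc : (H ⧸ N) × {c : C // u ^ j ∣ orderOf c} =>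
      (⟨qc.1.out * qc.2.1.1 * qc.1.out⁻¹, by
        rw [hord, Subgroup.orderOf_coe]
        exact qc.2.2⟩ : {h : H // u ^ j ∣ orderOf h})) ?_
    rintro ⟨q, c, hc⟩ ⟨q', c', hc'⟩ h
    have h2 : q.out * (c : H) * q.out⁻¹ = q'.out * (c' : H) * q'.out⁻¹ := congrArg Subtype.val h
    have h3 : ∀ (g : H) (c : C), u ^ j ∣ orderOf c → g * x * g⁻¹ ∈ zpowers (g * (c : H) * g⁻¹) := by
      intro g c hc
      obtain ⟨i, hi⟩ := mem_zpowers_iff.1 (hgood c hc)
      rw [← hi, ← conj_zpow]
      exact zpow_mem (mem_zpowers _) i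
    have h4 := h3 q.out c hc
    have h5 := h3 q'.out c' hc'
    rw [← h2] at h5
    have h6 : Commute (q.out * x * q.out⁻¹) (q'.out * x * q'.out⁻¹) := by
      obtain ⟨i, hi⟩ := mem_zpowers_iff.1 h4
      obtain ⟨i', hi'⟩ := mem_zpowers_iff.1 h5
      rw [← hi, ← hi']
      exact ((Commute.refl _).zpow_left i).zpow_right i'
    have h7 := zpowers_eq_of_commute hcyc (by rw [hord, hx]) (by rw [hord, hx]) h6
    have h8 : q = q' := by
      rw [← QuotientGroup.out_eq' q, ← QuotientGroup.out_eq' q', QuotientGroup.eq]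
      change q.out⁻¹ * q'.out ∈ normalizer (zpowers x : Set H)
      have h9 : (q.out⁻¹ * q'.out) * x * (q.out⁻¹ * q'.out)⁻¹ ∈ zpowers x := by
        obtain ⟨i, hi⟩ := mem_zpowers_iff.1 h7
        rw [conj_zpow] at hi
        rw [mem_zpowers_iff]
        refine ⟨i, ?_⟩
        have : q.out⁻¹ * (q.out * x ^ i * q.out⁻¹) * q.out = q.out⁻¹ * (q'.out * x * q'.out⁻¹) * q.out := by rw [hi]
        calc x ^ i = q.out⁻¹ * (q.out * x ^ i * q.out⁻¹) * q.out := by group
          _ = q.out⁻¹ * (q'.out * x * q'.out⁻¹) * q.out := this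
          _ = _ := by group
      refine mem_normalizer_fintype fun n hn => ?_
      obtain ⟨i, rfl⟩ := mem_zpowers_iff.1 hn
      rw [← conj_zpow]
      exact zpow_mem h9 i
    subst h8
    have h10 : (c : H) = c' := by
      have := mul_right_cancel h2
      exact mul_left_cancel this
    have h11 : c = c' := Subtype.ext h10
    subst h11
    rfl
  calc Nat.card H = Nat.card (H ⧸ N) * Nat.card N := Subgroup.card_eq_card_quotient_mul_card_subgroup N
    _ ≤ Nat.card (H ⧸ N) * (k * Nat.card C) := Nat.mul_le_mul_left _ hk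
    _ ≤ Nat.card (H ⧸ N) * (k * (2 * Nat.card {c : C // u ^ j ∣ orderOf c})) :=
        Nat.mul_le_mul_left _ (Nat.mul_le_mul_left _ hhalf)
    _ = 2 * k * (Nat.card (H ⧸ N) * Nat.card {c : C // u ^ j ∣ orderOf c}) := by ring
    _ ≤ _ := Nat.mul_le_mul_left _ hinj

end Core

section Rep

open Polynomial Matrix

variable {H : Type*} [Group H] [Finite H] {u : ℕ} [Fact u.Prime]

omit [Fact u.Prime] in
/-- a matrix of order `u` (invertible in the field) has an eigenvalue `≠ 1` -/
theorem exists_eigen {E : Type*} [Field E] [IsAlgClosed E] {ι : Type*} [Fintype ι] [DecidableEq ι] (hu : (u : E) ≠ 0)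
    {M : Matrix ι ι E} (hM : M ^ u = 1) (h1 : M ≠ 1) : ∃ l ∈ spectrum E M, l ≠ 1 := by
  by_contra hcon
  push Not at hcon
  -- the characteristic polynomial is `(X - 1) ^ N`
  have h2 : M.charpoly = (X - C 1) ^ Fintype.card ι := by
    have hs := IsAlgClosed.splits M.charpoly
    have hm := M.charpoly_monic
    have h3 := hs.eq_prod_roots_of_monic hm
    have h4 : M.charpoly.roots = Multiset.replicate (Multiset.card M.charpoly.roots) 1 := by
      rw [Multiset.eq_replicate]
      refine ⟨rfl, fun b hb => ?_⟩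
      refine hcon b (Matrix.mem_spectrum_iff_isRoot_charpoly.2 ?_)
      exact (Polynomial.mem_roots'.1 hb).2
    have h5 : Multiset.card M.charpoly.roots = Fintype.card ι := by
      rw [← hs.natDegree_eq_card_roots, M.charpoly_natDegree_eq_dim]
    rw [h3, h4, Multiset.map_replicate, Multiset.prod_replicate, h5]
  have h3 : (M - 1) ^ Fintype.card ι = 0 := by
    have := M.aeval_self_charpoly
    rw [h2] at this
    simpa using this
  -- the polynomial `1 + X + ... + X ^ (u - 1)` is prime to `X - 1`
  let g : E[X] := ∑ i ∈ Finset.range u, X ^ i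
  have h4 : IsCoprime g ((X - C 1) ^ Fintype.card ι) := by
    refine IsCoprime.pow_right ?_
    rw [Polynomial.isCoprime_iff_aeval_ne_zero_of_isAlgClosed E E]
    intro a
    by_cases ha : a = 1
    · left
      rw [ha]
      simp only [g, map_sum, map_pow, aeval_X, one_pow, Finset.sum_const, Finset.card_range, nsmul_eq_mul, mul_one]
      exact hu
    · right
      simp only [map_sub, aeval_X, aeval_C]
      intro h
      exact ha (by simpa using sub_eq_zero.1 h)
  obtain ⟨a, b, hab⟩ := h4
  have h5 : aeval M a * aeval M g = 1 := by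
    have h6 := congrArg (aeval M) hab
    rw [map_add, map_mul, map_mul, map_pow, map_sub, aeval_X, aeval_C, map_one, map_one, h3, mul_zero, add_zero] at h6
    exact h6
  have h6 : aeval M g * (M - 1) = 0 := by
    have h7 : g * (X - 1) = X ^ u - 1 := geom_sum_mul X u
    have h8 := congrArg (aeval M) h7
    rw [map_mul, map_sub, aeval_X, map_one, map_sub, map_pow, aeval_X, map_one, hM, sub_self] at h8
    exact h8
  have h7 : M - 1 = 0 := by
    calc M - 1 = aeval M a * aeval M g * (M - 1) := by rw [h5, one_mul]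
      _ = 0 := by rw [mul_assoc, h6, mul_zero]
  exact h1 (sub_eq_zero.1 h7)

/-- the automizer of a subgroup of order `u` of a linear group of degree `N` has order at most `N` -/
theorem card_normalizer_le {F : Type*} [Field F] {ι : Type*} [Fintype ι] [DecidableEq ι] (hu : (u : F) ≠ 0)
    (ρ : H →* GL ι F) (hρ : Function.Injective ρ) {x : H} (hx : orderOf x = u) :
    Nat.card (normalizer (zpowers x : Set H)) ≤ Fintype.card ι * Nat.card (centralizer ({x} : Set H)) := by
  classical
  have hup : u.Prime := Fact.out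
  let E := AlgebraicClosure F
  let τ : H →* Matrix ι ι E := (Units.coeHom _).comp ((Matrix.GeneralLinearGroup.map (algebraMap F E)).comp ρ)
  have hτ : Function.Injective τ := by
    intro a b hab
    refine hρ (Units.ext (Matrix.ext fun i j => ?_))
    have h1 := congrFun (congrFun hab i) j
    exact (algebraMap F E).injective h1
  have huE : (u : E) ≠ 0 := by
    intro h
    apply hu
    apply (algebraMap F E).injective
    rw [map_natCast, h, map_zero]
  obtain ⟨l, hl, hl1⟩ := exists_eigen huE (M := τ x) (by rw [← map_pow, ← hx, pow_orderOf_eq_one, map_one])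
    (fun h => hup.one_lt.ne' (by rw [← hx, orderOf_eq_one_iff]; exact hτ (by rw [h, map_one])))
  -- `l ^ u = 1`
  have hlu : l ^ u = 1 := by
    have h1 := spectrum.pow_mem_pow (τ x) u hl
    rw [← map_pow, ← hx, pow_orderOf_eq_one, map_one, hx] at h1
    rcases isEmpty_or_nonempty ι with h | h
    · exfalso
      rw [spectrum.mem_iff] at h1
      exact h1 (isUnit_of_subsingleton _)
    · have h2 : spectrum E (1 : Matrix ι ι E) = {1} := spectrum.one_eq
      rw [h2] at h1
      exact h1
  have hlo : orderOf l = u := orderOf_eq_prime hlu hl1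
  set N := normalizer (zpowers x : Set H) with hN
  -- the exponent
  have hex : ∀ g : N, ∃ i : ℕ, (g : H) * x * (g : H)⁻¹ = x ^ i := fun g => by
    have h1 : (g : H) * x * (g : H)⁻¹ ∈ zpowers x := (mem_normalizer_iff.1 g.2 x).1 (mem_zpowers x)
    rw [← mem_powers_iff_mem_zpowers] at h1
    obtain ⟨i, hi⟩ := (Submonoid.mem_powers_iff _ _).1 h1
    exact ⟨i, hi.symm⟩
  choose e he using hex
  have hspec : ∀ g : N, l ^ e g ∈ spectrum E (τ x) := by
    intro g
    have h1 := spectrum.pow_mem_pow (τ x) (e g) hl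
    rw [← map_pow, ← he g, map_mul, map_mul] at h1
    have h2 : spectrum E (τ (g : H) * τ x * τ ((g : H)⁻¹)) = spectrum E (τ x) := by
      have h3 : ((Units.map τ (toUnits (g : H)) : (Matrix ι ι E)ˣ) : Matrix ι ι E) = τ (g : H) := rfl
      have h4 : (((Units.map τ (toUnits (g : H)))⁻¹ : (Matrix ι ι E)ˣ) : Matrix ι ι E) = τ ((g : H)⁻¹) := rfl
      rw [← h3, ← h4]
      exact spectrum.units_conjugate
    rw [h2] at h1
    exact h1
  -- the map to the roots
  let t : Finset E := (τ x).charpoly.roots.toFinset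
  have ht : t.card ≤ Fintype.card ι := by
    refine (Multiset.toFinset_card_le _).trans ((Polynomial.card_roots' _).trans ?_)
    rw [Matrix.charpoly_natDegree_eq_dim]
  have hmap : ∀ g : N, l ^ e g ∈ t := fun g => by
    rw [Multiset.mem_toFinset, Polynomial.mem_roots (τ x).charpoly_monic.ne_zero]
    exact Matrix.mem_spectrum_iff_isRoot_charpoly.1 (hspec g)
  have : Fintype N := Fintype.ofFinite _
  have hfib : ∀ b ∈ t, (Finset.univ.filter fun g : N => l ^ e g = b).card ≤ Nat.card (centralizer ({x} : Set H)) := by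
    intro b _
    rcases (Finset.univ.filter fun g : N => l ^ e g = b).eq_empty_or_nonempty with h | ⟨a, ha⟩
    · rw [h, Finset.card_empty]
      exact Nat.zero_le _
    · have : Fintype (centralizer ({x} : Set H)) := Fintype.ofFinite _
      rw [Nat.card_eq_fintype_card, ← Finset.card_univ]
      have ha' : l ^ e a = b := (Finset.mem_filter.1 ha).2
      have key : ∀ g : N, l ^ e g = b → (a : H)⁻¹ * g ∈ centralizer ({x} : Set H) := by
        intro g hg
        have hl0 : l ≠ 0 := fun h => by
          rw [h, zero_pow hup.ne_zero] at hlu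
          exact zero_ne_one hlu
        have hLo : orderOf (Units.mk0 l hl0) = u := by
          rw [← orderOf_units, Units.val_mk0, hlo]
        have hg' : (Units.mk0 l hl0) ^ e g = (Units.mk0 l hl0) ^ e a := Units.ext (by
          rw [Units.val_pow_eq_pow_val, Units.val_pow_eq_pow_val, Units.val_mk0, hg, ha'])
        rw [pow_eq_pow_iff_modEq, hLo, ← hx, ← pow_eq_pow_iff_modEq, ← he, ← he] at hg'
        rw [mem_centralizer_singleton_iff]
        have h1 : (g : H) * x = (a : H) * x * (a : H)⁻¹ * g := by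
          rw [← hg', inv_mul_cancel_right]
        rw [mul_assoc, h1]
        group
      refine Finset.card_le_card_of_injOn (fun g => if h : l ^ e g = b then
        (⟨(a : H)⁻¹ * g, key g h⟩ : centralizer ({x} : Set H)) else 1)
        (fun c _ => Finset.mem_coe.2 (Finset.mem_univ _)) fun c hc d hd h => ?_
      have hc' : l ^ e c = b := (Finset.mem_filter.1 hc).2
      have hd' : l ^ e d = b := (Finset.mem_filter.1 hd).2
      simp only [hc', hd', dif_pos] at h
      exact Subtype.ext (mul_left_cancel (Subtype.mk.inj h))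
  have h1 := Finset.card_le_mul_card_image_of_maps_to (s := (Finset.univ : Finset N)) (f := fun g => l ^ e g) (t := t)
    (fun g _ => hmap g) _ hfib
  rw [Finset.card_univ, ← Nat.card_eq_fintype_card] at h1
  calc Nat.card N ≤ Nat.card (centralizer ({x} : Set H)) * t.card := h1
    _ ≤ Nat.card (centralizer ({x} : Set H)) * Fintype.card ι := Nat.mul_le_mul_left _ ht
    _ = _ := mul_comm _ _

/-- **The counting lemma** for a linear group of degree `N`. -/
theorem sing_pow {F : Type*} [Field F] {ι : Type*} [Fintype ι] [DecidableEq ι] (hu : (u : F) ≠ 0)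
    (ρ : H →* GL ι F) (hρ : Function.Injective ρ) (hcyc : CycP u H) {j : ℕ} (hj : 1 ≤ j)
    (hd : u ^ j ∣ Nat.card H) : Nat.card H ≤ 2 * Fintype.card ι * Nat.card {h : H // u ^ j ∣ orderOf h} := by
  obtain ⟨x, hx⟩ := exists_prime_orderOf_dvd_card' u ((dvd_pow_self u (by omega)).trans hd)
  exact sing_core hcyc hx (card_normalizer_le hu ρ hρ hx) hj hd

end Rep

section Torus

variable {T : Type*} [Group T] [Finite T]

/-- **The torus count.** -/
theorem torus_count (C : Subgroup T) (E : Set T) (hE : ∀ a ∈ E, centralizer ({a} : Set T) = C) :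
    Nat.card E * Nat.card T ≤
      Nat.card (normalizer (C : Set T)) * Nat.card {x : T // ∃ g : T, g * x * g⁻¹ ∈ E} := by
  classical
  set N := normalizer (C : Set T) with hN
  have hinj : Nat.card (T ⧸ N) * Nat.card E ≤ Nat.card {x : T // ∃ g : T, g * x * g⁻¹ ∈ E} := by
    rw [← Nat.card_prod]
    refine Nat.card_le_card_of_injective (fun qc : (T ⧸ N) × E =>
      (⟨qc.1.out * qc.2.1 * qc.1.out⁻¹, qc.1.out⁻¹, by
        have : (qc.1.out)⁻¹ * (qc.1.out * qc.2.1 * qc.1.out⁻¹) * (qc.1.out)⁻¹⁻¹ = qc.2.1 := by group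
        rw [this]
        exact qc.2.2⟩ : {x : T // ∃ g : T, g * x * g⁻¹ ∈ E})) ?_
    rintro ⟨q, c, hc⟩ ⟨q', c', hc'⟩ h
    have h2 : q.out * c * q.out⁻¹ = q'.out * c' * q'.out⁻¹ := congrArg Subtype.val h
    have h3 : q = q' := by
      rw [← QuotientGroup.out_eq' q, ← QuotientGroup.out_eq' q', QuotientGroup.eq]
      change q.out⁻¹ * q'.out ∈ normalizer (C : Set T)
      set y := q.out⁻¹ * q'.out with hy
      have h4 : y * c' * y⁻¹ = c := by
        calc y * c' * y⁻¹ = q.out⁻¹ * (q'.out * c' * q'.out⁻¹) * q.out := by rw [hy]; group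
          _ = q.out⁻¹ * (q.out * c * q.out⁻¹) * q.out := by rw [h2]
          _ = c := by group
      refine mem_normalizer_fintype fun n hn => ?_
      have h5 : n ∈ centralizer ({c'} : Set T) := by rw [hE c' hc']; exact hn
      have h6 : y * n * y⁻¹ ∈ centralizer ({c} : Set T) := by
        rw [mem_centralizer_singleton_iff] at h5 ⊢
        rw [← h4]
        calc y * n * y⁻¹ * (y * c' * y⁻¹) = y * (n * c') * y⁻¹ := by group
          _ = y * (c' * n) * y⁻¹ := by rw [h5]
          _ = _ := by group
      rw [hE c hc] at h6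
      exact h6
    subst h3
    have h10 : c = c' := by
      have := mul_right_cancel h2
      exact mul_left_cancel this
    subst h10
    rfl
  calc Nat.card E * Nat.card T = Nat.card E * (Nat.card (T ⧸ N) * Nat.card N) := by
        rw [Subgroup.card_eq_card_quotient_mul_card_subgroup N]
    _ = Nat.card N * (Nat.card (T ⧸ N) * Nat.card E) := by ring
    _ ≤ _ := Nat.mul_le_mul_left _ hinj

end Torus

end Cfsg.Agent.H851.Dg
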