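import Cfsg.Agent.H851.Dg.Defs
import Cfsg.Agent.OrdDiv.Main

/-!
# S5734: large primes of the classical groups

* `BigU g u` : `u` is a prime such that the order `e` of `q` modulo `u` (of `-q` for the unitary groups) is so large that
  the Sylow `u`-subgroups of the classical group named `g` are cyclic and non-trivial;
* `TwoU g u` : `u` is a prime such that the order of `q` modulo `u` is the (even) rank: Sylow `u`-subgroups of rank two;
* `CycP u R` : all `u`-subgroups of `R` are cyclic;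
* `Out g R` : the wanted outcome for a proper subgroup `R` of the group named `g`.
-/

set_option autoImplicit false

namespace Cfsg.Agent.H851.Dg

open Cfsg.Agent.OrdDiv

/-- large primes -/
def BigU : Grp → ℕ → Prop
  | .psl n q, u => u.Prime ∧ n < 2 * orderOf ((q : ℕ) : ZMod u) ∧ orderOf ((q : ℕ) : ZMod u) ≤ n
  | .psu n q, u => u.Prime ∧ n < 2 * orderOf (-((q : ℕ) : ZMod u)) ∧ orderOf (-((q : ℕ) : ZMod u)) ≤ n
  | .psp m q, u => u.Prime ∧ ((Even (orderOf ((q : ℕ) : ZMod u)) ∧ m < orderOf ((q : ℕ) : ZMod u) ∧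
      orderOf ((q : ℕ) : ZMod u) ≤ 2 * m) ∨ (Odd (orderOf ((q : ℕ) : ZMod u)) ∧
      m < 2 * orderOf ((q : ℕ) : ZMod u) ∧ orderOf ((q : ℕ) : ZMod u) ≤ m))
  | .oodd m q, u => u.Prime ∧ ((Even (orderOf ((q : ℕ) : ZMod u)) ∧ m < orderOf ((q : ℕ) : ZMod u) ∧
      orderOf ((q : ℕ) : ZMod u) ≤ 2 * m) ∨ (Odd (orderOf ((q : ℕ) : ZMod u)) ∧
      m < 2 * orderOf ((q : ℕ) : ZMod u) ∧ orderOf ((q : ℕ) : ZMod u) ≤ m))
  | .oplus m q, u => u.Prime ∧ ((Even (orderOf ((q : ℕ) : ZMod u)) ∧ m < orderOf ((q : ℕ) : ZMod u) ∧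
      orderOf ((q : ℕ) : ZMod u) ≤ 2 * (m - 1)) ∨ (Odd (orderOf ((q : ℕ) : ZMod u)) ∧
      m < 2 * orderOf ((q : ℕ) : ZMod u) ∧ orderOf ((q : ℕ) : ZMod u) ≤ m))
  | .ominus m q, u => u.Prime ∧ ((Even (orderOf ((q : ℕ) : ZMod u)) ∧ m < orderOf ((q : ℕ) : ZMod u) ∧
      orderOf ((q : ℕ) : ZMod u) ≤ 2 * m) ∨ (Odd (orderOf ((q : ℕ) : ZMod u)) ∧
      m < 2 * orderOf ((q : ℕ) : ZMod u) ∧ orderOf ((q : ℕ) : ZMod u) ≤ m - 1))
  | _, _ => False

/-- primes with Sylow subgroups of rank two -/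
def TwoU : Grp → ℕ → Prop
  | .psp m q, u => u.Prime ∧ Even m ∧ orderOf ((q : ℕ) : ZMod u) = m
  | .oodd m q, u => u.Prime ∧ Even m ∧ orderOf ((q : ℕ) : ZMod u) = m
  | .oplus m q, u => u.Prime ∧ Even m ∧ orderOf ((q : ℕ) : ZMod u) = m
  | _, _ => False

/-- all `u`-subgroups are cyclic -/
def CycP (u : ℕ) (R : Type*) [Group R] : Prop := ∀ P : Subgroup R, IsPGroup u P → IsCyclic P

/-- a prime power of a large prime is missing -/
def BigPow (g : Grp) {T : Type*} [Group T] (R : Subgroup T) : Prop :=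
  ∃ u j, BigU g u ∧ 1 ≤ j ∧ u ^ j ∣ Nat.card T ∧ ¬ u ^ j ∣ Nat.card R

/-- a prime power is missing, for a prime with cyclic Sylow subgroups -/
def MissC {T : Type*} [Group T] (R : Subgroup T) : Prop :=
  ∃ u j, Nat.Prime u ∧ 1 ≤ j ∧ u ^ j ∣ Nat.card T ∧ ¬ u ^ j ∣ Nat.card R ∧ CycP u T

/-- the outcome for a proper subgroup of the group named `g` -/
def Out (g : Grp) {T : Type*} [Group T] (R : Subgroup T) : Prop :=
  (∃ u, BigU g u ∧ ¬ u ∣ Nat.card R) ∨ ∃ u, TwoU g u ∧ CycP u R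

end Cfsg.Agent.H851.Dg
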