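import Cfsg.Agent.H851.Dg.Num
import Cfsg.Agent.H851.Dg.Big
import Cfsg.Agent.H278.ElAltNum

/-!
# S5734: large prime powers in the orders of the classical groups of bounded dimension
-/

set_option autoImplicit false

namespace Cfsg.Agent.H851.Dg

open Cfsg.Agent.OrdDiv Cfsg.Agent.H436
open Cfsg.Agent.H278.El.AltNum (dimOf)

/-- the classical groups treated by the general rows -/
def BigCl : Grp → Prop
  | .psl n _ => 4 ≤ n
  | .psu n _ => 4 ≤ n
  | .psp m _ => 3 ≤ m
  | .oodd m _ => 3 ≤ m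
  | .oplus m _ => 4 ≤ m
  | .ominus m _ => 4 ≤ m
  | _ => False

/-- the parameter `q` of a classical group -/
def qOf : Grp → ℕ
  | .psl _ q => q
  | .psp _ q => q
  | .psu _ q => q
  | .oodd _ q => q
  | .oplus _ q => q
  | .ominus _ q => q
  | _ => 0

section

variable {q u e : ℕ}

theorem ord_facts (hu : u.Prime) (he : 3 ≤ e) (ho : orderOf (q : ZMod u) = e) (hq : 1 ≤ q) :
    (∀ m, u ∣ q ^ m - 1 ↔ e ∣ m) ∧ ¬ u ∣ q ∧ e < u := by
  have h1 : ∀ m, u ∣ q ^ m - 1 ↔ e ∣ m := fun m => by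
    rw [Cfsg.Agent.Lib.Zsigmondy.dvd_pow_sub_one_iff hq, ho]
  have h2 : ¬ u ∣ q := by
    intro h
    have := Fact.mk hu
    have h3 : (q : ZMod u) = 0 := (ZMod.natCast_eq_zero_iff _ _).2 h
    have h4 : (q : ZMod u) ^ e = 1 := by rw [← ho, pow_orderOf_eq_one]
    rw [h3, zero_pow (by omega)] at h4
    exact zero_ne_one h4
  refine ⟨h1, h2, ?_⟩
  have h3 := Cfsg.Agent.Lib.Zsigmondy.orderOf_dvd_pred hu h2
  rw [ho] at h3
  have h4 := Nat.le_of_dvd (by have := hu.two_le; omega) h3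
  have := hu.two_le
  omega

theorem pow_dvd_c {j d c X : ℕ} (hu : u.Prime) (hd : ¬ u ∣ d) (h : d * c = X) (hX : u ^ j ∣ X) : u ^ j ∣ c := by
  rw [← h] at hX
  exact (Nat.Coprime.pow_left j ((Nat.Prime.coprime_iff_not_dvd hu).2 hd)).dvd_of_dvd_mul_left hX

theorem pow_dvd_add {j m : ℕ} (hu : u.Prime) (h1 : ¬ u ∣ q ^ m - 1) (hd : u ^ j ∣ q ^ (2 * m) - 1) :
    u ^ j ∣ q ^ m + 1 := by
  have h4 : q ^ (2 * m) - 1 = (q ^ m + 1) * (q ^ m - 1) := by
    rw [mul_comm 2 m, pow_mul]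
    have := Nat.sq_sub_sq (q ^ m) 1
    rw [one_pow] at this
    exact this
  rw [h4] at hd
  exact (Nat.Coprime.pow_left j ((Nat.Prime.coprime_iff_not_dvd hu).2 h1)).dvd_of_dvd_mul_right hd

theorem not_dvd_small (hu : u.Prime) (he : 3 ≤ e) (h : e < u) : ¬ u ∣ 2 ∧ ¬ u ∣ 4 := by
  have h2 : ¬ u ∣ 2 := fun h => by have := Nat.le_of_dvd (by norm_num) h; omega
  refine ⟨h2, fun h4 => h2 ?_⟩
  exact hu.dvd_of_dvd_pow (show u ∣ 2 ^ 2 by simpa using h4)

/-- the exponent for the unitary groups -/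
def eU (n : ℕ) : ℕ := if n % 2 = 1 then 2 * n else if n % 4 = 0 then n else n / 2

theorem eU_ge {n : ℕ} (hn : 4 ≤ n) : 3 ≤ eU n := by
  unfold eU
  split_ifs <;> omega

theorem eU_le {n : ℕ} : eU n ≤ 2 * n := by
  unfold eU
  split_ifs <;> omega

theorem orderOf_neg_eq {n : ℕ} (hu : u.Prime) (hn : 4 ≤ n) (hq : 1 ≤ q) (ho : orderOf (q : ZMod u) = eU n) :
    orderOf (-(q : ZMod u)) = n := by
  obtain ⟨h1, h2, h3⟩ := ord_facts hu (eU_ge hn) ho hq
  have := Fact.mk hu
  have hu2 : u ≠ 2 := by have := eU_ge hn; omega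
  have hne : (1 : ZMod u) ≠ -1 := by
    intro h
    have h4 : (2 : ZMod u) = 0 := by
      have : (1 : ZMod u) + 1 = 0 := by nth_rewrite 2 [h]; ring
      rw [← this]; norm_num
    have h5 : ((2 : ℕ) : ZMod u) = 0 := by exact_mod_cast h4
    rw [ZMod.natCast_eq_zero_iff] at h5
    have := Nat.le_of_dvd (by norm_num) h5
    have := hu.two_le
    omega
  have hx : ∀ k, (q : ZMod u) ^ k = 1 ↔ eU n ∣ k := fun k => by rw [← ho, orderOf_dvd_iff_pow_eq_one]
  have hn0 : 0 < n := by omega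
  -- the criterion
  have hsq : ∀ k, (-(q : ZMod u)) ^ k = 1 → (q : ZMod u) ^ (2 * k) = 1 := fun k hk => by
    have h4 : (q : ZMod u) ^ (2 * k) = ((-(q : ZMod u)) ^ k) ^ 2 := by
      rw [← pow_mul, mul_comm k 2, pow_mul, pow_mul, neg_sq]
    rw [h4, hk, one_pow]
  have key : ∀ k, (-(q : ZMod u)) ^ k = 1 ↔ n ∣ k := by
    intro k
    unfold eU at hx
    split_ifs at hx with h4 h5
    · -- `n` odd
      have hodd : Odd n := Nat.odd_iff.2 h4
      have hxn : (q : ZMod u) ^ n = -1 := by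
        have h6 : ((q : ZMod u) ^ n) ^ 2 = 1 := by rw [← pow_mul, mul_comm]; exact (hx _).2 dvd_rfl
        rcases sq_eq_one_iff.1 h6 with h | h
        · have h7 := (hx n).1 h
          have := Nat.le_of_dvd hn0 h7
          omega
        · exact h
      constructor
      · intro hk
        have h7 := (hx _).1 (hsq k hk)
        exact (Nat.mul_dvd_mul_iff_left (by norm_num)).1 h7
      · rintro ⟨t, rfl⟩
        rw [pow_mul, hodd.neg_pow, hxn, neg_neg, one_pow]
    · constructor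
      · intro hk
        obtain ⟨s, hs⟩ := Nat.dvd_of_mod_eq_zero h5
        have h7 := (hx _).1 (hsq k hk)
        have h8 : 2 * s ∣ k := by
          rw [hs, show 4 * s = 2 * (2 * s) by ring] at h7
          exact (Nat.mul_dvd_mul_iff_left (by norm_num)).1 h7
        have h9 : Even k := by
          obtain ⟨t, rfl⟩ := h8
          exact ⟨s * t, by ring⟩
        rw [h9.neg_pow] at hk
        exact (hx k).1 hk
      · intro hk
        obtain ⟨s, hs⟩ := Nat.dvd_of_mod_eq_zero h5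
        have h9 : Even k := by
          obtain ⟨t, rfl⟩ := hk
          exact ⟨2 * s * t, by rw [hs]; ring⟩
        rw [h9.neg_pow]
        exact (hx k).2 hk
    · have hn2 : n = 2 * (n / 2) := by omega
      have hodd : Odd (n / 2) := Nat.odd_iff.2 (by omega)
      have hcop : Nat.Coprime (n / 2) 2 := by
        rw [Nat.coprime_comm, Nat.coprime_two_left]
        exact hodd
      constructor
      · intro hk
        have h7 := (hx _).1 (hsq k hk)
        have h8 : n / 2 ∣ k := hcop.dvd_of_dvd_mul_left h7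
        have h9 : Even k := by
          by_contra hcon
          have h10 : Odd k := Nat.not_even_iff_odd.1 hcon
          rw [h10.neg_pow, (hx k).2 h8] at hk
          exact hne hk.symm
        have h11 : n / 2 * 2 ∣ k := hcop.mul_dvd_of_dvd_of_dvd h8 (even_iff_two_dvd.1 h9)
        rw [hn2, mul_comm]
        exact h11
      · intro hk
        have h9 : Even k := by
          obtain ⟨t, rfl⟩ := hk
          exact ⟨n / 2 * t, by rw [← two_mul, ← mul_assoc, ← hn2]⟩
        rw [h9.neg_pow]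
        exact (hx k).2 ((Dvd.intro_left 2 hn2.symm).trans hk)
  apply Nat.dvd_antisymm
  · rw [orderOf_dvd_iff_pow_eq_one]
    exact (key n).2 dvd_rfl
  · exact (key _).1 (pow_orderOf_eq_one _)

end

/-- the exponent used for `g` -/
def eOf : Grp → ℕ
  | .psl n _ => n
  | .psu n _ => eU n
  | .psp m _ => 2 * m
  | .oodd m _ => 2 * m
  | .oplus m _ => 2 * (m - 1)
  | .ominus m _ => 2 * m
  | _ => 0

theorem eOf_facts {g : Grp} (hg : BigCl g) : 3 ≤ eOf g ∧ eOf g ≤ 2 * dimOf g := by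
  cases g with
  | psl n q => exact ⟨(show 3 ≤ n from (by have : 4 ≤ n := hg; omega)), show n ≤ 2 * n by omega⟩
  | psu n q => exact ⟨eU_ge hg, eU_le⟩
  | psp m q => exact ⟨show 3 ≤ 2 * m from (by have : 3 ≤ m := hg; omega), show 2 * m ≤ 2 * (2 * m) by omega⟩
  | oodd m q => exact ⟨show 3 ≤ 2 * m from (by have : 3 ≤ m := hg; omega), show 2 * m ≤ 2 * (2 * m + 1) by omega⟩
  | oplus m q => exact ⟨show 3 ≤ 2 * (m - 1) from (by have : 4 ≤ m := hg; omega),
      show 2 * (m - 1) ≤ 2 * (2 * m) by omega⟩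
  | ominus m q => exact ⟨show 3 ≤ 2 * m from (by have : 4 ≤ m := hg; omega), show 2 * m ≤ 2 * (2 * m) by omega⟩
  | _ => exact hg.elim

theorem qOf_ge {g : Grp} (hg : BigCl g) (hc : Cond g) : 2 ≤ qOf g := by
  cases g with
  | psl n q => exact hc.2.2.two_le
  | psu n q => exact hc.2.2.two_le
  | psp m q => exact hc.2.2.two_le
  | oodd m q => exact hc.2.2.two_le
  | oplus m q => exact hc.2.two_le
  | ominus m q => exact hc.2.two_le
  | _ => exact hg.elim

/-- the primes of order `eOf g` are large primes, and their powers in `q ^ e - 1` divide the order of the group -/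
theorem bigU_of {g : Grp} (hg : BigCl g) (hc : Cond g) {c : ℕ} (h : den g * c = num g) {u j : ℕ} (hu : u.Prime)
    (ho : orderOf ((qOf g : ℕ) : ZMod u) = eOf g) (hd : u ^ j ∣ qOf g ^ eOf g - 1) : BigU g u ∧ u ^ j ∣ c := by
  obtain ⟨h3, -⟩ := eOf_facts hg
  have hq2 := qOf_ge hg hc
  obtain ⟨h1, h2, h4⟩ := ord_facts hu h3 ho (by omega)
  obtain ⟨h5, h6⟩ := not_dvd_small hu h3 h4
  have hq1 : ¬ u ∣ qOf g - 1 := by
    intro h
    have := (h1 1).1 (by rw [pow_one]; exact h)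
    have := Nat.le_of_dvd (by norm_num) this
    omega
  cases g with
  | psl n q =>
    have hn : 4 ≤ n := hg
    have ho : orderOf ((q : ℕ) : ZMod u) = n := ho
    refine ⟨⟨hu, by rw [ho]; omega, by rw [ho]⟩, ?_⟩
    refine pow_dvd_c hu (d := Nat.gcd n (q - 1) * (q - 1)) ?_ (h : _ = glN n q) ?_
    · intro h7
      rcases hu.dvd_mul.1 h7 with h8 | h8
      · exact hq1 (h8.trans (Nat.gcd_dvd_right _ _))
      · exact hq1 h8
    · have h7 := dvd_list (fun i => q ^ n - q ^ i) (n := n) (i := 0) (by omega)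
      rw [pow_zero] at h7
      exact Dvd.dvd.trans hd h7
  | psu n q =>
    have hn : 4 ≤ n := hg
    have ho : orderOf ((q : ℕ) : ZMod u) = eU n := ho
    have hq2 : 2 ≤ q := hq2
    have ho' := orderOf_neg_eq hu hn (by omega) ho
    refine ⟨⟨hu, by rw [ho']; omega, by rw [ho']⟩, ?_⟩
    have hqp : ¬ u ∣ q + 1 := by
      intro h7
      have h8 : u ∣ q ^ 2 - 1 := by
        have := Nat.sq_sub_sq q 1
        rw [one_pow] at this
        rw [this]
        exact h7.mul_right _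
      have h9 := Nat.le_of_dvd (by norm_num) ((h1 2).1 h8)
      omega
    refine pow_dvd_c hu (d := Nat.gcd n (q + 1) * (q + 1)) ?_ (h : _ = q ^ (n * (n - 1) / 2) * prU q n) ?_
    · intro h7
      rcases hu.dvd_mul.1 h7 with h8 | h8
      · exact hqp (h8.trans (Nat.gcd_dvd_right _ _))
      · exact hqp h8
    · have h7 := dvd_list (fU q) (n := n) (i := n - 1) (by omega)
      refine Dvd.dvd.trans ?_ (Dvd.dvd.mul_left h7 _)
      have h8 : u ^ j ∣ q ^ eU n - 1 := hd
      unfold fU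
      rcases Nat.even_or_odd' n with ⟨k, hk | hk⟩
      · have h9 : (n - 1) % 2 = 1 := by omega
        rw [h9, Nat.sub_add_cancel (by omega)]
        change u ^ j ∣ q ^ n - 1
        have h10 : eU n ∣ n := by
          unfold eU
          rw [if_neg (by omega)]
          split_ifs
          · exact dvd_rfl
          · exact ⟨2, by omega⟩
        refine h8.trans ?_
        have h11 := Nat.pow_sub_pow_dvd_pow_sub_pow q 1 h10
        rwa [one_pow, one_pow] at h11
      · have h9 : (n - 1) % 2 = 0 := by omega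
        rw [h9, Nat.sub_add_cancel (by omega)]
        change u ^ j ∣ q ^ n + 1
        refine pow_dvd_add hu ?_ ?_
        · intro h10
          have h11 := Nat.le_of_dvd (by omega) ((h1 n).1 h10)
          have h12 : eOf (Grp.psu n q) = 2 * n := by
            change eU n = _
            unfold eU
            rw [if_pos (by omega)]
          rw [h12] at h11
          omega
        · have h12 : eU n = 2 * n := by
            unfold eU
            rw [if_pos (by omega)]
          rw [← h12]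
          exact h8
  | psp m q =>
    have hm : 3 ≤ m := hg
    have ho : orderOf ((q : ℕ) : ZMod u) = 2 * m := ho
    refine ⟨⟨hu, Or.inl ⟨by rw [ho]; exact even_two_mul m, by rw [ho]; omega, by rw [ho]⟩⟩, ?_⟩
    refine pow_dvd_c hu (d := Nat.gcd 2 (q - 1)) (fun h7 => h5 (h7.trans (Nat.gcd_dvd_left _ _)))
      (h : _ = q ^ (m ^ 2) * prB q m) ?_
    have h7 := prB_dvd (q := q) (m := m) (i := m - 1) (by omega)
    rw [Nat.sub_add_cancel (by omega)] at h7
    exact (Dvd.dvd.trans hd h7).mul_left _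
  | oodd m q =>
    have hm : 3 ≤ m := hg
    have ho : orderOf ((q : ℕ) : ZMod u) = 2 * m := ho
    refine ⟨⟨hu, Or.inl ⟨by rw [ho]; exact even_two_mul m, by rw [ho]; omega, by rw [ho]⟩⟩, ?_⟩
    refine pow_dvd_c hu (d := 2) h5 (h : _ = q ^ (m ^ 2) * prB q m) ?_
    have h7 := prB_dvd (q := q) (m := m) (i := m - 1) (by omega)
    rw [Nat.sub_add_cancel (by omega)] at h7
    exact (Dvd.dvd.trans hd h7).mul_left _
  | oplus m q =>
    have hm : 4 ≤ m := hg
    have ho : orderOf ((q : ℕ) : ZMod u) = 2 * (m - 1) := ho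
    refine ⟨⟨hu, Or.inl ⟨by rw [ho]; exact even_two_mul _, by rw [ho]; omega, by rw [ho]⟩⟩, ?_⟩
    refine pow_dvd_c hu (d := Nat.gcd 4 (q ^ m - 1)) (fun h7 => h6 (h7.trans (Nat.gcd_dvd_left _ _)))
      (h : _ = q ^ (m * (m - 1)) * ((q ^ m - 1) * prB q (m - 1))) ?_
    have h7 := prB_dvd (q := q) (m := m - 1) (i := m - 2) (by omega)
    rw [show m - 2 + 1 = m - 1 by omega] at h7
    exact ((Dvd.dvd.trans hd h7).mul_left _).mul_left _
  | ominus m q =>
    have hm : 4 ≤ m := hg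
    have ho : orderOf ((q : ℕ) : ZMod u) = 2 * m := ho
    refine ⟨⟨hu, Or.inl ⟨by rw [ho]; exact even_two_mul m, by rw [ho]; omega, by rw [ho]⟩⟩, ?_⟩
    refine pow_dvd_c hu (d := Nat.gcd 4 (q ^ m + 1)) (fun h7 => h6 (h7.trans (Nat.gcd_dvd_left _ _)))
      (h : _ = q ^ (m * (m - 1)) * ((q ^ m + 1) * prB q (m - 1))) ?_
    refine (Dvd.dvd.mul_right ?_ _).mul_left _
    refine pow_dvd_add hu ?_ hd
    intro h10
    have h11 := Nat.le_of_dvd (by omega) ((h1 m).1 h10)
    have h12 : eOf (Grp.ominus m q) = 2 * m := rfl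
    rw [h12] at h11
    omega
  | _ => exact hg.elim

/-- **Bounded dimension, large `q`**: a power of a large prime divides the order and exceeds a given bound. -/
theorem exists_bigPow (N B : ℕ) : ∃ Q : ℕ, ∀ g : Grp, BigCl g → Cond g → ∀ c : ℕ, den g * c = num g → dimOf g ≤ N →
    Q ≤ qOf g → ∃ u j, BigU g u ∧ 1 ≤ j ∧ u ^ j ∣ c ∧ B < u ^ j := by
  have h : ∀ e, ∃ Q : ℕ, 3 ≤ e → ∀ q : ℕ, Q ≤ q → ∃ u j : ℕ, u.Prime ∧ 1 ≤ j ∧
      orderOf (q : ZMod u) = e ∧ u ^ j ∣ q ^ e - 1 ∧ B < u ^ j := fun e => by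
    by_cases he : 3 ≤ e
    · obtain ⟨Q, hQ⟩ := exists_pow_gt he B
      exact ⟨Q, fun _ => hQ⟩
    · exact ⟨0, fun h => absurd h he⟩
  choose Q hQ using h
  refine ⟨(Finset.range (2 * N + 1)).sup Q, fun g hg hc c hcc hd hq => ?_⟩
  obtain ⟨h1, h2⟩ := eOf_facts hg
  have h3 : Q (eOf g) ≤ (Finset.range (2 * N + 1)).sup Q :=
    Finset.le_sup (f := Q) (Finset.mem_range.2 (by omega))
  obtain ⟨u, j, hu, hj, ho, hdv, hB⟩ := hQ (eOf g) h1 (qOf g) (h3.trans hq)
  obtain ⟨h4, h5⟩ := bigU_of hg hc hcc hu ho hdv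
  exact ⟨u, j, h4, hj, h5, hB⟩

theorem prod_le_list {f : ℕ → ℕ} {C n : ℕ} (h : ∀ i < n, f i ≤ C) : ((List.range n).map f).prod ≤ C ^ n := by
  induction n with
  | zero => simp
  | succ n ih =>
    rw [List.range_succ, List.map_append, List.prod_append, pow_succ]
    refine Nat.mul_le_mul (ih fun i hi => h i (by omega)) ?_
    simpa using h n (by omega)

/-- the order is bounded by `q` and the dimension -/
theorem num_le {g : Grp} (hg : BigCl g) (hc : Cond g) : num g ≤ qOf g ^ ((dimOf g + 1) * (2 * dimOf g)) := by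
  have hq2 := qOf_ge hg hc
  cases g with
  | psl n q =>
    have hq : 2 ≤ q := hq2
    change glN n q ≤ q ^ ((n + 1) * (2 * n))
    refine (prod_le_list (C := q ^ n) fun i _ => Nat.sub_le _ _).trans ?_
    rw [← pow_mul]
    exact Nat.pow_le_pow_right (by omega) (by nlinarith)
  | psu n q =>
    have hq : 2 ≤ q := hq2
    have hn : 4 ≤ n := hg
    change q ^ (n * (n - 1) / 2) * prU q n ≤ q ^ ((n + 1) * (2 * n))
    have h1 : prU q n ≤ (q ^ (n + 1)) ^ n := by
      refine prod_le_list fun i hi => ?_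
      have h2 : q ^ (i + 1) + 1 ≤ q ^ (n + 1) := by
        calc q ^ (i + 1) + 1 ≤ q ^ (i + 1) * 2 := by
              have := Nat.one_le_pow (i + 1) q (by omega); omega
          _ ≤ q ^ (i + 1) * q := Nat.mul_le_mul_left _ hq
          _ = q ^ (i + 2) := by rw [← pow_succ]
          _ ≤ q ^ (n + 1) := Nat.pow_le_pow_right (by omega) (by omega)
      split_ifs
      · exact h2
      · omega
    calc q ^ (n * (n - 1) / 2) * prU q n ≤ q ^ (n * (n - 1) / 2) * (q ^ (n + 1)) ^ n := Nat.mul_le_mul_left _ h1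
      _ = q ^ (n * (n - 1) / 2 + (n + 1) * n) := by rw [← pow_mul, ← pow_add]
      _ ≤ q ^ ((n + 1) * (2 * n)) := Nat.pow_le_pow_right (by omega) (by
          have h3 : n * (n - 1) / 2 ≤ n * (n - 1) := Nat.div_le_self _ _
          have h4 : n * (n - 1) ≤ n * n := Nat.mul_le_mul_left _ (Nat.sub_le _ _)
          nlinarith)
  | psp m q =>
    have hq : 2 ≤ q := hq2
    have hm : 3 ≤ m := hg
    change q ^ (m ^ 2) * prB q m ≤ q ^ ((2 * m + 1) * (2 * (2 * m)))
    have h1 : prB q m ≤ (q ^ (2 * m)) ^ m := prod_le_list fun i hi =>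
      (Nat.sub_le _ _).trans (Nat.pow_le_pow_right (by omega) (by omega))
    calc q ^ (m ^ 2) * prB q m ≤ q ^ (m ^ 2) * (q ^ (2 * m)) ^ m := Nat.mul_le_mul_left _ h1
      _ = q ^ (m ^ 2 + 2 * m * m) := by rw [← pow_mul, ← pow_add]
      _ ≤ _ := Nat.pow_le_pow_right (by omega) (by nlinarith)
  | oodd m q =>
    have hq : 2 ≤ q := hq2
    have hm : 3 ≤ m := hg
    change q ^ (m ^ 2) * prB q m ≤ q ^ ((2 * m + 1 + 1) * (2 * (2 * m + 1)))
    have h1 : prB q m ≤ (q ^ (2 * m)) ^ m := prod_le_list fun i hi =>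
      (Nat.sub_le _ _).trans (Nat.pow_le_pow_right (by omega) (by omega))
    calc q ^ (m ^ 2) * prB q m ≤ q ^ (m ^ 2) * (q ^ (2 * m)) ^ m := Nat.mul_le_mul_left _ h1
      _ = q ^ (m ^ 2 + 2 * m * m) := by rw [← pow_mul, ← pow_add]
      _ ≤ _ := Nat.pow_le_pow_right (by omega) (by nlinarith)
  | oplus m q =>
    have hq : 2 ≤ q := hq2
    have hm : 4 ≤ m := hg
    change q ^ (m * (m - 1)) * ((q ^ m - 1) * prB q (m - 1)) ≤ q ^ ((2 * m + 1) * (2 * (2 * m)))
    have h1 : prB q (m - 1) ≤ (q ^ (2 * m)) ^ (m - 1) := prod_le_list fun i hi =>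
      (Nat.sub_le _ _).trans (Nat.pow_le_pow_right (by omega) (by omega))
    obtain ⟨k, rfl⟩ : ∃ k, m = k + 1 := ⟨m - 1, by omega⟩
    rw [Nat.add_sub_cancel] at *
    calc q ^ ((k + 1) * k) * ((q ^ (k + 1) - 1) * prB q k)
        ≤ q ^ ((k + 1) * k) * (q ^ (k + 1) * (q ^ (2 * (k + 1))) ^ k) :=
          Nat.mul_le_mul_left _ (Nat.mul_le_mul (Nat.sub_le _ _) h1)
      _ = q ^ ((k + 1) * k + ((k + 1) + 2 * (k + 1) * k)) := by rw [← pow_mul, ← pow_add, ← pow_add]
      _ ≤ _ := Nat.pow_le_pow_right (by omega) (by nlinarith)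
  | ominus m q =>
    have hq : 2 ≤ q := hq2
    have hm : 4 ≤ m := hg
    change q ^ (m * (m - 1)) * ((q ^ m + 1) * prB q (m - 1)) ≤ q ^ ((2 * m + 1) * (2 * (2 * m)))
    have h1 : prB q (m - 1) ≤ (q ^ (2 * m)) ^ (m - 1) := prod_le_list fun i hi =>
      (Nat.sub_le _ _).trans (Nat.pow_le_pow_right (by omega) (by omega))
    have h2 : q ^ m + 1 ≤ q ^ (m + 1) := by
      rw [pow_succ]
      have := Nat.one_le_pow m q (by omega)
      nlinarith
    obtain ⟨k, rfl⟩ : ∃ k, m = k + 1 := ⟨m - 1, by omega⟩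
    rw [Nat.add_sub_cancel] at *
    calc q ^ ((k + 1) * k) * ((q ^ (k + 1) + 1) * prB q k)
        ≤ q ^ ((k + 1) * k) * (q ^ (k + 1 + 1) * (q ^ (2 * (k + 1))) ^ k) :=
          Nat.mul_le_mul_left _ (Nat.mul_le_mul h2 h1)
      _ = q ^ ((k + 1) * k + ((k + 1 + 1) + 2 * (k + 1) * k)) := by rw [← pow_mul, ← pow_add, ← pow_add]
      _ ≤ _ := Nat.pow_le_pow_right (by omega) (by nlinarith)
  | _ => exact hg.elim

theorem den_pos {g : Grp} (hg : BigCl g) (hc : Cond g) : 1 ≤ den g := by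
  have hq2 := qOf_ge hg hc
  cases g with
  | psl n q =>
    have hq : 2 ≤ q := hq2
    exact Nat.mul_pos (Nat.gcd_pos_of_pos_right _ (by omega)) (by omega)
  | psu n q => exact Nat.mul_pos (Nat.gcd_pos_of_pos_right _ (by omega)) (by omega)
  | psp m q => exact Nat.gcd_pos_of_pos_left _ (by norm_num)
  | oodd m q => exact (by norm_num : 1 ≤ 2)
  | oplus m q => exact Nat.gcd_pos_of_pos_left _ (by norm_num)
  | ominus m q => exact Nat.gcd_pos_of_pos_left _ (by norm_num)
  | _ => exact hg.elim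

/-- large order and bounded dimension: large `q` -/
theorem q_large {g : Grp} (hg : BigCl g) (hc : Cond g) {c : ℕ} (h : den g * c = num g) {N Q : ℕ} (hd : dimOf g ≤ N)
    (hcc : (Q + 1) ^ ((N + 1) * (2 * N)) < c) : Q ≤ qOf g := by
  by_contra hcon
  push Not at hcon
  have h1 := num_le hg hc
  have h2 : c ≤ num g := by
    rw [← h]
    exact Nat.le_mul_of_pos_left _ (den_pos hg hc)
  have h3 : qOf g ^ ((dimOf g + 1) * (2 * dimOf g)) ≤ (Q + 1) ^ ((N + 1) * (2 * N)) :=
    (Nat.pow_le_pow_left (by omega) _).trans (Nat.pow_le_pow_right (by omega)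
      (Nat.mul_le_mul (by omega) (by omega)))
  omega

/-- **Bounded dimension**: every subgroup of bounded order of a large classical group misses a power of a large
prime. -/
theorem bigPow_of_card_le (N B : ℕ) : ∃ D : ℕ, ∀ (g : Grp) (T : Type) [Group T] [Finite T], IsNamed g T → BigCl g →
    dimOf g ≤ N → D ≤ Nat.card T → ∀ R : Subgroup T, Nat.card R ≤ B → BigPow g R := by
  obtain ⟨Q, hQ⟩ := exists_bigPow N B
  refine ⟨(Q + 1) ^ ((N + 1) * (2 * N)) + 1, fun g T _ _ hT hg hd hD R hR => ?_⟩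
  obtain ⟨u, j, h1, h2, h3, h4⟩ := hQ g hg hT.cond _ hT.eq hd (q_large hg hT.cond hT.eq hd (by omega))
  refine ⟨u, j, h1, h2, h3, fun h => ?_⟩
  have := Nat.le_of_dvd Nat.card_pos h
  omega

end Cfsg.Agent.H851.Dg
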