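import Mathlib

/-!
# S5734 (proportion of derangements), basic definitions

* `nd K` : the number of elements of `T` without a conjugate in `K` (= the number of derangements of `T` on `T / K`);
* `RowB c T` : `c |T| ≤ nd K` for all maximal subgroups `K` of `T`;
* `AS c S X A` : the wanted inequality `c |X| ≤ log |X : A| * nd A`.
-/

set_option autoImplicit false

namespace Cfsg.Agent.H851.Dg

universe u

/-- the number of elements without a conjugate in `K` -/
noncomputable def nd {T : Type*} [Group T] (K : Subgroup T) : ℕ :=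
  Nat.card {x : T // ∀ g : T, g * x * g⁻¹ ∉ K}

/-- `c |T| ≤ nd K` for all maximal subgroups `K` -/
def RowB (c : ℝ) (T : Type*) [Group T] : Prop :=
  ∀ K : Subgroup T, IsCoatom K → c * (Nat.card T : ℝ) ≤ nd K

/-- the statement for all almost simple groups `X` with socle `≅ T` -/
def Row (c : ℝ) (T : Type u) [Group T] : Prop :=
  ∀ (X : Type u) [Group X] [Finite X] (S A : Subgroup X), S.Normal → Nonempty (S ≃* T) →
    Subgroup.centralizer (S : Set X) = ⊥ → S ⊔ A = ⊤ → A ≠ ⊤ →
    c * (Nat.card X : ℝ) ≤ Real.log A.index * nd A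

section

variable {T : Type*} [Group T]

theorem nd_le_card [Finite T] (K : Subgroup T) : nd K ≤ Nat.card T :=
  Nat.card_le_card_of_injective _ Subtype.val_injective

theorem nd_anti [Finite T] {K L : Subgroup T} (h : K ≤ L) : nd L ≤ nd K :=
  Nat.card_le_card_of_injective (fun x : {x : T // ∀ g : T, g * x * g⁻¹ ∉ L} =>
    (⟨x.1, fun g hg => x.2 g (h hg)⟩ : {x : T // ∀ g : T, g * x * g⁻¹ ∉ K}))
    fun _ _ hab => Subtype.ext (Subtype.mk.inj hab)

/-- `nd` is a lower bound for sets of elements without conjugates in `K` -/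
theorem card_le_nd [Finite T] {K : Subgroup T} {s : Set T} (h : ∀ x ∈ s, ∀ g : T, g * x * g⁻¹ ∉ K) :
    Nat.card s ≤ nd K :=
  Nat.card_le_card_of_injective (fun x : s => (⟨x.1, h x.1 x.2⟩ : {x : T // ∀ g : T, g * x * g⁻¹ ∉ K}))
    fun _ _ hab => Subtype.ext (Subtype.mk.inj hab)

theorem nd_comap_equiv {S : Type*} [Group S] (e : T ≃* S) (K : Subgroup S) :
    nd (K.comap e.toMonoidHom) = nd K := by
  refine Nat.card_congr (e.toEquiv.subtypeEquiv fun x => ?_)
  constructor
  · intro h g hg
    refine h (e.symm g) ?_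
    rw [Subgroup.mem_comap]
    simpa using hg
  · intro h g hg
    refine h (e g) ?_
    rw [Subgroup.mem_comap] at hg
    simpa using hg

/-- the elements of order divisible by a prime not dividing `|K|` -/
theorem singular_le_nd [Finite T] {K : Subgroup T} {u : ℕ} (hu : ¬ u ∣ Nat.card K) :
    Nat.card {x : T // u ∣ orderOf x} ≤ nd K := by
  refine card_le_nd (s := {x : T | u ∣ orderOf x}) fun x hx g hg => hu ?_
  have h1 : orderOf (g * x * g⁻¹) = orderOf x := by
    have := orderOf_injective (MulAut.conj g).toMonoidHom (MulAut.conj g).injective x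
    simpa using this
  have h2 : orderOf (⟨g * x * g⁻¹, hg⟩ : K) = orderOf x := by rw [Subgroup.orderOf_mk, h1]
  have h3 : u ∣ orderOf x := hx
  rw [← h2] at h3
  exact h3.trans (orderOf_dvd_natCard _)

/-- Jordan: a proper subgroup of a finite group has `nd K ≥ 1`. -/
theorem one_le_nd [Finite T] {K : Subgroup T} (hK : K ≠ ⊤) : 1 ≤ nd K := by
  by_contra hcon
  have h0 : nd K = 0 := by omega
  have hemp : IsEmpty {x : T // ∀ g : T, g * x * g⁻¹ ∉ K} := by
    rcases (Nat.card_eq_zero.1 h0) with h | h
    · exact h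
    · exact absurd (inferInstance : Finite _) (not_finite_iff_infinite.2 h)
  -- the number of elements in the conjugates of `K` is at most `|T : K| (|K| - 1) + 1`
  have hcov : ∀ x : T, ∃ g : T, g * x * g⁻¹ ∈ K := by
    intro x
    by_contra h
    push Not at h
    exact hemp.false ⟨x, h⟩
  -- surjection `(T ⧸ K) × (K ∖ 1) ⊕ 1 → T`
  let f : Option ((T ⧸ K) × {k : K // k ≠ 1}) → T := fun o => match o with
    | none => 1
    | some (q, k) => q.out * k.1 * (q.out)⁻¹
  have hf : Function.Surjective f := by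
    intro x
    by_cases hx : x = 1
    · exact ⟨none, hx.symm⟩
    · obtain ⟨g, hg⟩ := hcov x
      set q : T ⧸ K := QuotientGroup.mk g⁻¹ with hq
      obtain ⟨k, hk⟩ := QuotientGroup.mk_out_eq_mul K g⁻¹
      refine ⟨some (q, ⟨⟨k.1⁻¹ * (g * x * g⁻¹) * k.1, K.mul_mem (K.mul_mem (K.inv_mem k.2) hg) k.2⟩, ?_⟩), ?_⟩
      · intro h
        apply hx
        have h1 : (k.1)⁻¹ * (g * x * g⁻¹) * k.1 = 1 := congrArg Subtype.val h
        have h2 : g * x * g⁻¹ = 1 := by
          have : g * x * g⁻¹ = k.1 * ((k.1)⁻¹ * (g * x * g⁻¹) * k.1) * (k.1)⁻¹ := by group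
          rw [this, h1]; group
        have h3 : x = g⁻¹ * (g * x * g⁻¹) * g := by group
        rw [h3, h2]; group
      · show q.out * ((k.1)⁻¹ * (g * x * g⁻¹) * k.1) * (q.out)⁻¹ = x
        have : q.out = g⁻¹ * k.1 := hk
        rw [this]
        group
  have h1 := Nat.card_le_card_of_surjective f hf
  rw [Finite.card_option, Nat.card_prod] at h1
  have h2 : Nat.card {k : K // k ≠ 1} = Nat.card K - 1 := by
    classical
    let : Fintype K := Fintype.ofFinite K
    rw [Nat.card_eq_fintype_card, Nat.card_eq_fintype_card, Fintype.card_subtype_compl, Fintype.card_subtype_eq]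
  rw [h2] at h1
  have h3 : Nat.card (T ⧸ K) = K.index := rfl
  rw [h3, ← K.index_mul_card] at h1
  have h4 : 0 < Nat.card K := Nat.card_pos
  have h5 : 2 ≤ K.index := by
    have h6 := Subgroup.index_ne_zero_of_finite (H := K)
    have h7 : K.index ≠ 1 := fun h => hK (Subgroup.index_eq_one.1 h)
    omega
  have h8 : K.index * (Nat.card K - 1) + K.index = K.index * Nat.card K := by
    rw [← Nat.mul_succ]
    congr 1
    omega
  omega

end

end Cfsg.Agent.H851.Dg
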