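import Cfsg.Agent.H851.Dg.AsmFin
import Cfsg.Agent.H560.DgChar
import Cfsg.Agent.H807.Dg.OtherRow
import Cfsg.Agent.H951.Two.Row

/-!
# S5734: the rows of the residual class of the classical groups, without hypotheses
-/

set_option autoImplicit false

namespace Cfsg.Agent.H851.Dg

open Cfsg Cfsg.Agent.OrdDiv Cfsg.Agent.H436 Cfsg.Agent.H915.GN
open Cfsg.Agent.H545.Dr (TwoRow)

/-- **The socles of Lie type in the characteristic of the group.** -/
theorem charRow : CharRow := by
  refine ⟨10 ^ 30, fun p gT g T _ _ hp hT hch hcl hD R S hSn hR hSs hna hC hS hg => ?_⟩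
  refine H560.DgChar.char_row hp hT hch ?_ hD hR S hna hC hS hg
  cases gT with
  | psl n q => exact Or.inl ⟨n, q, hcl, rfl⟩
  | psp m q => exact Or.inr (Or.inl ⟨m, q, hcl, rfl⟩)
  | oodd m q => exact Or.inr (Or.inr (Or.inl ⟨m, q, rfl⟩))
  | oplus m q => exact Or.inr (Or.inr (Or.inr (Or.inl ⟨m, q, rfl⟩)))
  | ominus m q => exact Or.inr (Or.inr (Or.inr (Or.inr (Or.inl ⟨m, q, rfl⟩))))
  | psu n q => exact Or.inr (Or.inr (Or.inr (Or.inr (Or.inr ⟨n, q, hcl, rfl⟩))))
  | _ => exact hcl.elim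

/-- **The other socles.** -/
theorem otherRow : OtherRow := H807.Dg.other_row

/-- **The primes with Sylow subgroups of rank two.** -/
theorem twoRow : TwoRow := H951.Two.two_row

end Cfsg.Agent.H851.Dg
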