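import Cfsg.Agent.H851.Dg.Defs
import Cfsg.Agent.H545.Dr.Defs

/-!
# S5734: from almost simple groups to rows, from cosets to primitive actions
-/

set_option autoImplicit false

namespace Cfsg.Agent.H851.Dg

open Cfsg.Agent.H545.Dr (AS NC)

universe u v

theorem row_of_as {ε : ℝ} {T : Type u} [Group T] (h : AS.{u, u} ε T) : Row ε T := by
  intro X _ _ S A hS he hC hsup hA
  refine h X S hS he hC A (fun hle => hA ?_) hsup
  rwa [sup_eq_right.2 hle] at hsup

/-- the derangements of a transitive action -/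
theorem card_der_eq {G : Type u} {Ω : Type v} [Group G] [MulAction G Ω] (ht : MulAction.IsPretransitive G Ω) (ω : Ω) :
    Nat.card {g : G // ∀ ω : Ω, g • ω ≠ ω} = nd (MulAction.stabilizer G ω) := by
  refine Nat.card_congr ((Equiv.refl G).subtypeEquiv fun x => ?_)
  constructor
  · intro h g hg
    refine h (g⁻¹ • ω) ?_
    rw [MulAction.mem_stabilizer_iff, mul_smul, mul_smul] at hg
    have h1 := congrArg (fun z => g⁻¹ • z) hg
    simpa using h1
  · intro h ω' hω'
    obtain ⟨g, hg⟩ := MulAction.exists_smul_eq G ω' ω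
    refine h g ?_
    rw [MulAction.mem_stabilizer_iff, mul_smul, mul_smul, ← hg, inv_smul_smul]
    simp only [Equiv.refl_apply, hω']

theorem core_stab_eq_bot {G : Type u} {Ω : Type v} [Group G] [MulAction G Ω] [FaithfulSMul G Ω]
    (ht : MulAction.IsPretransitive G Ω) (ω : Ω) : (MulAction.stabilizer G ω).normalCore = ⊥ := by
  rw [eq_bot_iff]
  intro g hg
  rw [Subgroup.mem_bot]
  refine FaithfulSMul.eq_of_smul_eq_smul (α := Ω) fun ω' => ?_
  obtain ⟨x, hx⟩ := MulAction.exists_smul_eq G ω' ω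
  have h1 : x * g * x⁻¹ ∈ MulAction.stabilizer G ω := hg x
  rw [MulAction.mem_stabilizer_iff, mul_smul, mul_smul, ← hx, inv_smul_smul] at h1
  rw [one_smul]
  exact smul_left_cancel x h1

/-- **The action version.** -/
theorem action_of {ε : ℝ} (h : ∀ (G : Type u) [Group G] [Finite G] (A : Subgroup G), IsCoatom A →
    A.normalCore = ⊥ → (∀ N : Subgroup G, N.Normal → IsMulCommutative N → N = ⊥) →
    ε * (Nat.card G : ℝ) ≤ Real.log A.index * nd A) {G : Type u} {Ω : Type v} [Group G] [Finite G] [MulAction G Ω]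
    [FaithfulSMul G Ω] [Fintype Ω] (hp : MulAction.IsPreprimitive G Ω)
    (hab : ∀ N : Subgroup G, N.Normal → IsMulCommutative N → N = ⊥) (h2 : 2 ≤ Fintype.card Ω) :
    ε / Real.log (Fintype.card Ω) * (Nat.card G : ℝ) ≤ Nat.card {g : G // ∀ ω : Ω, g • ω ≠ ω} := by
  have hnt : Nontrivial Ω := Fintype.one_lt_card_iff_nontrivial.1 h2
  obtain ⟨ω⟩ : Nonempty Ω := hnt.to_nonempty
  have h1 := h G (MulAction.stabilizer G ω) ((MulAction.isCoatom_stabilizer_iff_preprimitive G ω).2 hp)
    (core_stab_eq_bot hp.toIsPretransitive ω) hab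
  have hidx : (MulAction.stabilizer G ω).index = Fintype.card Ω := by
    rw [MulAction.index_stabilizer_of_transitive G ω, Nat.card_eq_fintype_card]
  rw [card_der_eq hp.toIsPretransitive ω, div_mul_eq_mul_div, div_le_iff₀ (Real.log_pos (by exact_mod_cast h2)),
    mul_comm (nd (MulAction.stabilizer G ω) : ℝ)]
  rw [hidx] at h1
  exact h1

end Cfsg.Agent.H851.Dg
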