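import Cfsg.Agent.H851.Dg.Fam
import Cfsg.Agent.H851.Dg.Exc
import Cfsg.Agent.H545.Dr.Engine
import Cfsg.Agent.H663.AltD.Main
import Cfsg.Agent.H982.DgPsl
import Cfsg.Agent.H934.OutB

/-!
# S5734: assembly over the simple groups
-/

set_option autoImplicit false

namespace Cfsg.Agent.H851.Dg

open Cfsg Cfsg.Agent.OrdDiv Cfsg.Agent.H436 Cfsg.Agent.H915.GN Cfsg.Agent.H545.Dr Cfsg.Agent.H598.ExcFth

universe u v

theorem nd_eq_NC {T : Type*} [Group T] (K : Subgroup T) : nd K = Nat.card (NC K) := rfl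

theorem outCard_eq_out (T : Type*) [Group T] : outCard T = Nat.card (Cfsg.Out T) := rfl

/-- `|Out T| ≤ (3 / log 2) log |T : M|` -/
theorem out_le_log {T : Type*} [Group T] [Finite T] (h : H934.OutB.Bd T) {M : Subgroup T} (hM : M ≠ ⊤) :
    (outCard T : ℝ) ≤ 3 / Real.log 2 * Real.log (M.index : ℝ) := by
  have h1 := h M hM
  have h2 : 0 < M.index := Nat.pos_of_ne_zero M.index_ne_zero_of_finite
  have h3 : (2 : ℝ) ^ outCard T ≤ (M.index : ℝ) ^ 3 := by exact_mod_cast h1
  have h4 := Real.log_le_log (by positivity) h3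
  rw [Real.log_pow, Real.log_pow] at h4
  have h5 : 0 < Real.log 2 := Real.log_pos (by norm_num)
  rw [div_mul_eq_mul_div, le_div_iff₀ h5]
  push_cast at h4
  exact h4

/-- a constant proportion of derangements -/
theorem spec_of_const {T : Type*} [Group T] [Finite T] (h : H934.OutB.Bd T) {M : Subgroup T} (hM : M ≠ ⊤) {c : ℝ}
    (hc : 0 < c) (hcm : c * (Nat.card T : ℝ) ≤ nd M) : Spec (3 / Real.log 2 / c) T M := by
  unfold Spec
  have h1 := out_le_log h hM
  have h2 : (0 : ℝ) < Nat.card T := by exact_mod_cast Nat.card_pos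
  have h3 : (Nat.card T : ℝ) ≤ nd M / c := by
    rw [le_div_iff₀ hc, mul_comm]
    exact hcm
  have h4 : (0 : ℝ) ≤ 3 / Real.log 2 * Real.log (M.index : ℝ) := (Nat.cast_nonneg _).trans h1
  calc (outCard T : ℝ) * Nat.card T ≤ 3 / Real.log 2 * Real.log (M.index : ℝ) * (nd M / c) :=
        mul_le_mul h1 h3 h2.le h4
    _ = 3 / Real.log 2 / c * Real.log (M.index : ℝ) * (Nat.card (NC M) : ℝ) := by
        rw [nd_eq_NC]
        ring

/-- a name for a finite simple group in any universe -/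
theorem exists_type_zero (T : Type u) [Group T] [Finite T] : ∃ (T0 : Type) (_ : Group T0) (_ : Finite T0),
    Nonempty (T ≃* T0) := by
  have : Small.{0} T := inferInstance
  exact ⟨Shrink.{0} T, inferInstance, Finite.of_equiv T (equivShrink T), ⟨Shrink.mulEquiv.symm⟩⟩

/-- families with a uniform bound -/
def FamAS (P : Grp → Prop) : Prop :=
  ∃ (C : ℝ) (D : ℕ), 0 < C ∧ ∀ (g : Grp) (T : Type) [Group T] [Finite T] [IsSimpleGroup T],
    ¬ IsMulCommutative T → IsNamed g T → P g → D ≤ Nat.card T → ∀ M : Subgroup T, IsCoatom M →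
      GoodD C T M ∨ Spec C T M

theorem FamAS.or {P Q : Grp → Prop} (hP : FamAS P) (hQ : FamAS Q) : FamAS fun g => P g ∨ Q g := by
  obtain ⟨C, D, hC, h⟩ := hP
  obtain ⟨C', D', hC', h'⟩ := hQ
  refine ⟨max C C', max D D', lt_max_of_lt_left hC, fun g T _ _ _ hna hT hg hD M hM => ?_⟩
  rcases hg with hg | hg
  · exact (h g T hna hT hg ((le_max_left _ _).trans hD) M hM).imp (GoodD.le (le_max_left _ _))
      (Spec.le (le_max_left _ _))
  · exact (h' g T hna hT hg ((le_max_right _ _).trans hD) M hM).imp (GoodD.le (le_max_right _ _))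
      (Spec.le (le_max_right _ _))

theorem FamAS.mono {P Q : Grp → Prop} (hQ : FamAS Q) (h : ∀ g, P g → Q g) : FamAS P := by
  obtain ⟨C, D, hC, hh⟩ := hQ
  exact ⟨C, D, hC, fun g T _ _ _ hna hT hg => hh g T hna hT (h g hg)⟩

/-- the constant for all simple groups -/
theorem as_all_of (h : FamAS fun _ => True) (hname : NameRow) : ∃ ε : ℝ, 0 < ε ∧ ∀ (T : Type u) [Group T] [Finite T]
    [IsSimpleGroup T], ¬ IsMulCommutative T → AS.{u, v} ε T := by
  obtain ⟨C, D, hC, h⟩ := h
  obtain ⟨ε, hε, hs⟩ := as_of_card_le.{0, v} D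
  refine ⟨min ε (1 / (2 * C)), lt_min hε (by positivity), fun T _ _ _ hna => ?_⟩
  obtain ⟨T0, _, _, ⟨e⟩⟩ := exists_type_zero T
  refine AS.congr e ?_
  have hsimp : IsSimpleGroup T0 := e.symm.isSimpleGroup
  have hna0 : ¬ IsMulCommutative T0 := fun hc => hna ⟨⟨fun a b => e.injective (by
    rw [map_mul, map_mul]; exact hc.is_comm.comm _ _)⟩⟩
  rcases Nat.lt_or_ge (Nat.card T0) D with h1 | h1
  · exact AS.mono (min_le_left _ _) (hs T0 h1.le)
  · obtain ⟨g, hg⟩ := hname T0 hna0
    exact AS.mono (min_le_right _ _) (as_of_good hC (h g T0 hna0 hg trivial h1))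

/-- transport along an isomorphism -/
theorem Spec.of_equiv {C : ℝ} {T T' : Type*} [Group T] [Group T'] (e : T ≃* T') {M : Subgroup T}
    (h : Spec C T' (M.map e.toMonoidHom)) : Spec C T M := by
  unfold Spec at *
  have h1 : outCard T' = outCard T := by
    rw [outCard_eq_out, outCard_eq_out]
    exact (H934.OutB.card_out_congr e).symm
  have h2 : (M.map e.toMonoidHom).index = M.index := Subgroup.index_map_equiv M e
  have h3 : Nat.card T' = Nat.card T := (Nat.card_congr e.toEquiv).symm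
  have h4 : Nat.card (NC (M.map e.toMonoidHom)) = Nat.card (NC M) := by
    have h5 := nd_comap_equiv e (M.map e.toMonoidHom)
    have h6 : (M.map e.toMonoidHom).comap e.toMonoidHom = M := Subgroup.comap_map_eq_self_of_injective e.injective M
    rw [h6] at h5
    exact h5.symm
  rw [h1, h2, h3, h4] at h
  exact h

/-- rows with a constant proportion of derangements -/
theorem famAS_const {P : Grp → Prop} {c : ℝ} (hc : 0 < c) (hbd : ∀ (T : Type) [Group T] [Finite T] [IsSimpleGroup T],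
    ¬ IsMulCommutative T → H934.OutB.Bd T) (D : ℕ)
    (h : ∀ (g : Grp) (T : Type) [Group T] [Finite T] [IsSimpleGroup T], IsNamed g T → P g → D ≤ Nat.card T →
      ∀ M : Subgroup T, IsCoatom M → c * (Nat.card T : ℝ) ≤ nd M) : FamAS P := by
  have h2 : 0 < Real.log 2 := Real.log_pos (by norm_num)
  refine ⟨3 / Real.log 2 / c, D, by positivity, fun g T _ _ _ hna hT hg hD M hM => Or.inr ?_⟩
  exact spec_of_const (hbd T hna) hM.1 hc (h g T hT hg hD M hM)

theorem rowB_congr {c : ℝ} {T T' : Type*} [Group T] [Group T'] (e : T ≃* T') (h : RowB c T') : RowB c T := by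
  intro K hK
  have h1 : IsCoatom (K.map e.toMonoidHom) := (OrderIso.isCoatom_iff e.mapSubgroup K).2 hK
  have h2 := h _ h1
  have h3 := nd_comap_equiv e (K.map e.toMonoidHom)
  rw [Subgroup.comap_map_eq_self_of_injective e.injective] at h3
  rw [h3, Nat.card_congr e.toEquiv]
  exact h2

end Cfsg.Agent.H851.Dg
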