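import Cfsg.Agent.H851.Dg.Asm
import Cfsg.Agent.H545.Dr.Cls
import Cfsg.Agent.H934.OutAll

/-!
# S5734: all the simple groups, from the rows
-/

set_option autoImplicit false

namespace Cfsg.Agent.H851.Dg

open Cfsg Cfsg.Agent.OrdDiv Cfsg.Agent.H436 Cfsg.Agent.H915.GN Cfsg.Agent.H598.ExcFth
open Cfsg.Agent.H545.Dr (AS GoodD Spec outCard NC TwoRow)

universe u v

/-- the exceptional row -/
def ExcRow : Prop := ∃ B : ℕ, ∀ (g : Grp) (T : Type) [Group T] [Finite T], IsNamed g T → IsExc g → B ≤ Nat.card T →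
  ∀ R : Subgroup T, R ≠ ⊤ → MissC R ∨ Nat.card T ≤ 16 * nd R

/-- a row with constant proportion for the groups with names in `P` -/
def ConstRow (P : Grp → Prop) : Prop := ∃ c : ℝ, 0 < c ∧ ∀ (g : Grp) (T : Type) [Group T] [Finite T]
  [IsSimpleGroup T], IsNamed g T → P g → RowB c T

/-- all simple groups have `2 ^ |Out T| ≤ |T : M| ^ 3` -/
def BdRow : Prop := ∀ (T : Type) [Group T] [Finite T] [IsSimpleGroup T], ¬ IsMulCommutative T → H934.OutB.Bd T

theorem ConstRow.fam {P : Grp → Prop} (h : ConstRow P) (hbd : BdRow) : FamAS P := by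
  obtain ⟨c, hc, h⟩ := h
  exact famAS_const hc hbd 0 fun g T _ _ _ hT hg _ M hM => h g T hT hg M hM

theorem ConstRow.or {P Q : Grp → Prop} (hP : ConstRow P) (hQ : ConstRow Q) : ConstRow fun g => P g ∨ Q g := by
  obtain ⟨c, hc, h⟩ := hP
  obtain ⟨c', hc', h'⟩ := hQ
  refine ⟨min c c', lt_min hc hc', fun g T _ _ _ hT hg M hM => ?_⟩
  have h0 : (0 : ℝ) ≤ Nat.card T := Nat.cast_nonneg _
  rcases hg with hg | hg
  · exact (mul_le_mul_of_nonneg_right (min_le_left _ _) h0).trans (h g T hT hg M hM)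
  · exact (mul_le_mul_of_nonneg_right (min_le_right _ _) h0).trans (h' g T hT hg M hM)

/-- bounded order -/
theorem constRow_of_card_le {P : Grp → Prop} (B : ℕ) (h : ∀ g, P g → num g ≤ B) : ConstRow P := by
  refine ⟨1 / (B + 1), by positivity, fun g T _ _ _ hT hg M hM => ?_⟩
  have h1 : Nat.card T ≤ B := by
    refine le_trans ?_ (h g hg)
    rw [← hT.eq]
    exact Nat.le_mul_of_pos_left _ (H436.den_pos hT.cond)
  have h2 := one_le_nd hM.1
  have h3 : (Nat.card T : ℝ) ≤ B := by exact_mod_cast h1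
  have h4 : (1 : ℝ) ≤ nd M := by exact_mod_cast h2
  rw [one_div, inv_mul_le_iff₀ (by positivity)]
  nlinarith

/-- **The exceptional groups.** -/
theorem constRow_exc (hexc : ExcRow) : ConstRow IsExc := by
  obtain ⟨B, hB⟩ := hexc
  obtain ⟨B', hB'⟩ := exc_count
  refine ⟨1 / (496 + B + B'), by positivity, fun g T _ _ _ hT hg M hM => ?_⟩
  have h2 := one_le_nd hM.1
  have key : ∀ k : ℕ, (Nat.card T ≤ k * nd M) → (k ≤ 496 + B + B') →
      1 / (496 + B + B' : ℝ) * (Nat.card T : ℝ) ≤ nd M := by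
    intro k hk hk2
    rw [one_div, inv_mul_le_iff₀ (by positivity)]
    have h3 : (Nat.card T : ℝ) ≤ k * nd M := by exact_mod_cast hk
    have h4 : (k : ℝ) ≤ 496 + B + B' := by exact_mod_cast hk2
    have h5 : (0 : ℝ) ≤ nd M := Nat.cast_nonneg _
    nlinarith
  rcases Nat.lt_or_ge (Nat.card T) (B + B') with h3 | h3
  · exact key (B + B') (h3.le.trans (Nat.le_mul_of_pos_right _ h2)) (by omega)
  · rcases hB g T hT hg (by omega) M hM.1 with h | h
    · exact key 496 (hB' g T hT hg (by omega) M h) (by omega)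
    · exact key 16 h (by omega)

/-- **The alternating groups.** -/
theorem fam_alt : FamAS fun g => ∃ n, g = .alt n := by
  obtain ⟨c, hc, h⟩ := H663.AltD.alt
  refine ⟨2 / c, 361, by positivity, ?_⟩
  rintro g T _ _ _ hna hT ⟨n, rfl⟩ hD M hM
  right
  obtain ⟨e⟩ := hT.real
  have hn : 5 ≤ n := hT.cond
  refine Spec.of_equiv e ?_
  have hM' : IsCoatom (M.map e.toMonoidHom) := (OrderIso.isCoatom_iff e.mapSubgroup M).2 hM
  have h1 := h n hn _ hM'
  have hsimp : IsSimpleGroup (alternatingGroup (Fin n)) := e.symm.isSimpleGroup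
  have hna' : ¬ IsMulCommutative (alternatingGroup (Fin n)) := fun hc => hna ⟨⟨fun a b => e.injective (by
    rw [map_mul, map_mul]; exact hc.is_comm.comm _ _)⟩⟩
  have h6 : n ≠ 6 := by
    rintro rfl
    have h7 : Nat.card T = 360 := hT.ord.trans (by decide)
    omega
  have h2 : outCard (alternatingGroup (Fin n)) = 2 := H934.OutAll.card_out_alt hn h6 hna'
  unfold Spec
  rw [h2]
  have h3 : (Nat.card (alternatingGroup (Fin n)) : ℝ) ≤
      Real.log (M.map e.toMonoidHom).index * nd (M.map e.toMonoidHom) / c := by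
    rw [le_div_iff₀ hc, mul_comm]
    exact h1
  calc ((2 : ℕ) : ℝ) * (Nat.card (alternatingGroup (Fin n)) : ℝ)
      ≤ 2 * (Real.log (M.map e.toMonoidHom).index * nd (M.map e.toMonoidHom) / c) := by
        push_cast
        exact mul_le_mul_of_nonneg_left h3 (by norm_num)
    _ = _ := by
        rw [nd_eq_NC]
        ring

/-- **The classical groups of large rank.** -/
theorem fam_classical (hchar : CharRow) (hother : OtherRow) (hname : NameRow) (htwo : TwoRow) : FamAS BigCl := by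
  obtain ⟨C, hC, hcl⟩ := H545.Dr.classical htwo
  obtain ⟨D1, h1⟩ := out_psl hchar hother hname
  obtain ⟨D2, h2⟩ := out_psp hchar hother hname
  obtain ⟨D3, h3⟩ := out_psu hchar hother hname
  obtain ⟨D4, h4⟩ := out_oodd hchar hother hname
  obtain ⟨D5, h5⟩ := out_oplus hchar hother hname
  obtain ⟨D6, h6⟩ := out_ominus hchar hother hname
  refine ⟨C, D1 + D2 + D3 + D4 + D5 + D6, hC, fun g T _ _ _ hna hT hg hD M hM => ?_⟩
  refine hcl g T hna hT hg M hM.1 ?_
  -- transport to the concrete groups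
  have key : ∀ {T' : Type} [Group T'] (e : T ≃* T'), Out2 g (M.map e.toMonoidHom) → Out2 g M := by
    intro T' _ e h
    have e2 : M ≃* M.map e.toMonoidHom := M.equivMapOfInjective e.toMonoidHom e.injective
    have hc : Nat.card (M.map e.toMonoidHom) = Nat.card M := (Nat.card_congr e2.toEquiv).symm
    rcases h with (⟨u, hu, hd⟩ | ⟨u, hu, hcyc⟩) | ⟨u, j, hu, hj, hd, hn⟩
    · exact Or.inl (Or.inl ⟨u, hu, by rwa [hc] at hd⟩)
    · exact Or.inl (Or.inr ⟨u, hu, hcyc.of_injective e2.toMonoidHom e2.injective⟩)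
    · exact Or.inr ⟨u, j, hu, hj, by rwa [Nat.card_congr e.toEquiv], by rwa [hc] at hn⟩
  have hco : ∀ {T' : Type} [Group T'] (e : T ≃* T'), IsCoatom (M.map e.toMonoidHom) := fun e =>
    (OrderIso.isCoatom_iff e.mapSubgroup M).2 hM
  have hcard : ∀ {T' : Type} [Group T'] (e : T ≃* T'), D1 + D2 + D3 + D4 + D5 + D6 ≤ Nat.card T' := fun e => by
    rw [← Nat.card_congr e.toEquiv]
    exact hD
  cases g with
  | psl n q =>
    obtain ⟨F, _, _, rfl, ⟨e⟩⟩ := hT.real
    exact key e (h1 F n hg (by have := hcard e; omega) _ (hco e))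
  | psp m q =>
    obtain ⟨F, _, _, rfl, ⟨e⟩⟩ := hT.real
    exact key e (h2 F m hg (by have := hcard e; omega) _ (hco e).1)
  | psu n q =>
    obtain ⟨F, _, _, hF, ⟨e⟩⟩ := hT.real
    exact key e (h3 F n q hF hg (by have := hcard e; omega) _ (hco e).1)
  | oodd m q =>
    obtain ⟨F, _, _, rfl, ⟨e⟩⟩ := hT.real
    exact key e (h4 F m hg hT.cond.2.1 (by have := hcard e; omega) _ (hco e).1)
  | oplus m q =>
    obtain ⟨F, _, _, rfl, ⟨e⟩⟩ := hT.real
    exact key e (h5 F m hg (by have := hcard e; omega) _ (hco e).1)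
  | ominus m q =>
    obtain ⟨F, _, _, a, b, rfl, hab, ⟨e⟩⟩ := hT.real
    exact key e (h6 F m a b hg hab (by have := hcard e; omega) _ (hco e).1)
  | _ => exact hg.elim

/-- the small classical groups -/
def SmallCl : Grp → Prop
  | .psl n _ => n ≤ 3
  | .psp m _ => m ≤ 2
  | .psu n _ => n ≤ 3
  | _ => False

/-- sporadic groups and the Tits group -/
def IsSp (g : Grp) : Prop := g ∈ spor.map (fun x => x.1)

theorem constRow_sp : ConstRow IsSp := by
  refine constRow_of_card_le (spor.map fun x => num x.1).sum fun g hg => ?_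
  obtain ⟨x, hx, rfl⟩ := List.mem_map.1 hg
  exact List.single_le_sum (fun _ _ => Nat.zero_le _) _ (List.mem_map.2 ⟨x, hx, rfl⟩)

/-- every name in its range is of one of the kinds -/
theorem kinds (g : Grp) (hc : Cond g) : (∃ n, g = .alt n) ∨ SmallCl g ∨ BigCl g ∨ IsExc g ∨ IsSp g := by
  cases g with
  | alt n => exact Or.inl ⟨n, rfl⟩
  | psl n q =>
    rcases Nat.lt_or_ge 3 n with h | h
    · exact Or.inr (Or.inr (Or.inl h))
    · exact Or.inr (Or.inl h)
  | psp m q =>
    rcases Nat.lt_or_ge 2 m with h | h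
    · exact Or.inr (Or.inr (Or.inl h))
    · exact Or.inr (Or.inl h)
  | psu n q =>
    rcases Nat.lt_or_ge 3 n with h | h
    · exact Or.inr (Or.inr (Or.inl h))
    · exact Or.inr (Or.inl h)
  | oodd m q => exact Or.inr (Or.inr (Or.inl hc.1))
  | oplus m q => exact Or.inr (Or.inr (Or.inl hc.1))
  | ominus m q => exact Or.inr (Or.inr (Or.inl hc.1))
  | g2 q => exact Or.inr (Or.inr (Or.inr (Or.inl trivial)))
  | f4 q => exact Or.inr (Or.inr (Or.inr (Or.inl trivial)))
  | e6 q => exact Or.inr (Or.inr (Or.inr (Or.inl trivial)))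
  | e7 q => exact Or.inr (Or.inr (Or.inr (Or.inl trivial)))
  | e8 q => exact Or.inr (Or.inr (Or.inr (Or.inl trivial)))
  | te6 q => exact Or.inr (Or.inr (Or.inr (Or.inl trivial)))
  | td4 q => exact Or.inr (Or.inr (Or.inr (Or.inl trivial)))
  | sz q => exact Or.inr (Or.inr (Or.inr (Or.inl trivial)))
  | ree q => exact Or.inr (Or.inr (Or.inr (Or.inl trivial)))
  | tf4 q => exact Or.inr (Or.inr (Or.inr (Or.inl trivial)))
  | _ =>
    refine Or.inr (Or.inr (Or.inr (Or.inr ?_)))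
    simp only [IsSp, spor, List.map_cons, List.map_nil, List.mem_cons, reduceCtorEq, true_or, or_true, false_or]

/-- the row of the groups of small rank -/
theorem constRow_small
    (h2 : ∃ c : ℝ, 0 < c ∧ ∀ (F : Type) [Field F] [Fintype F], 4 ≤ Fintype.card F →
      RowB c (Matrix.ProjectiveSpecialLinearGroup (Fin 2) F))
    (h3 : ∃ c : ℝ, 0 < c ∧ ∀ (F : Type) [Field F] [Fintype F], RowB c (Matrix.ProjectiveSpecialLinearGroup (Fin 3) F))
    (hu : ∃ c : ℝ, 0 < c ∧ ∀ (F : Type) [Field F] [Fintype F] (q : ℕ), Fintype.card F = q ^ 2 → 3 ≤ q →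
      RowB c (PSU 3 F q))
    (h4 : ∃ c : ℝ, 0 < c ∧ ∀ (F : Type) [Field F] [Fintype F], 3 ≤ Fintype.card F → RowB c (PSp 2 F)) :
    ConstRow SmallCl := by
  obtain ⟨c1, hc1, h2⟩ := h2
  obtain ⟨c2, hc2, h3⟩ := h3
  obtain ⟨c3, hc3, hu⟩ := hu
  obtain ⟨c4, hc4, h4⟩ := h4
  refine ⟨min (min c1 c2) (min c3 c4), by positivity, fun g T _ _ _ hT hg => ?_⟩
  have hc := hT.cond
  have mono : ∀ {c : ℝ}, min (min c1 c2) (min c3 c4) ≤ c → RowB c T →
      RowB (min (min c1 c2) (min c3 c4)) T := fun hcc h M hM =>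
    (mul_le_mul_of_nonneg_right hcc (Nat.cast_nonneg _)).trans (h M hM)
  cases g with
  | psl n q =>
    obtain ⟨F, _, _, rfl, ⟨e⟩⟩ := hT.real
    have hn : n ≤ 3 := hg
    obtain ⟨hn2, hq, -⟩ := hc
    rcases (show n = 2 ∨ n = 3 by omega) with rfl | rfl
    · exact mono ((min_le_left _ _).trans (min_le_left _ _)) (rowB_congr e (h2 F (hq rfl)))
    · exact mono ((min_le_left _ _).trans (min_le_right _ _)) (rowB_congr e (h3 F))
  | psp m q =>
    obtain ⟨F, _, _, rfl, ⟨e⟩⟩ := hT.real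
    have hn : m ≤ 2 := hg
    obtain ⟨hn2, hq, -⟩ := hc
    obtain rfl : m = 2 := by omega
    exact mono ((min_le_right _ _).trans (min_le_right _ _)) (rowB_congr e (h4 F (hq rfl)))
  | psu n q =>
    obtain ⟨F, _, _, hF, ⟨e⟩⟩ := hT.real
    have hn : n ≤ 3 := hg
    obtain ⟨hn2, hq, hpp⟩ := hc
    obtain rfl : n = 3 := by omega
    have hq3 : 3 ≤ q := by
      have := hpp.two_le
      by_contra hcon
      exact hq ⟨rfl, by omega⟩
    exact mono ((min_le_right _ _).trans (min_le_left _ _)) (rowB_congr e (hu F q hF hq3))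
  | _ => exact hg.elim

/-- **All the simple groups.** -/
theorem as_all (hbd : BdRow) (hchar : CharRow) (hother : OtherRow) (hname : NameRow) (htwo : TwoRow)
    (hsmall : ConstRow SmallCl) (hexc : ExcRow) : ∃ ε : ℝ, 0 < ε ∧ ∀ (T : Type u) [Group T] [Finite T]
    [IsSimpleGroup T], ¬ IsMulCommutative T → AS.{u, v} ε T := by
  refine as_all_of ?_ hname
  have h := fam_alt.or ((hsmall.fam hbd).or ((fam_classical hchar hother hname htwo).or
    (((constRow_exc hexc).fam hbd).or (constRow_sp.fam hbd))))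
  obtain ⟨C, D, hC, hh⟩ := h
  exact ⟨C, D, hC, fun g T _ _ _ hna hT _ hD M hM => hh g T hna hT (kinds g hT.cond) hD M hM⟩

end Cfsg.Agent.H851.Dg
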