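import Cfsg.Agent.H851.Dg.NumT
import Cfsg.Agent.H855.Dg.GeoPsl
import Cfsg.Agent.H621.Dg.GeoPsp
import Cfsg.Agent.H621.Dg.GeoPsu
import Cfsg.Agent.H193.Dg.Orth
import Cfsg.Agent.H264.FKS.ResCore
import Cfsg.Agent.H304.PslRes
import Cfsg.Agent.H915.GNDefs

/-!
# S5734: the proper subgroups of the classical groups miss a power of a large prime (or are special)

The rows for the residual class (`CharRow`, `OtherRow`) are hypotheses.
-/

set_option autoImplicit false

namespace Cfsg.Agent.H851.Dg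

open Cfsg Cfsg.Geo Cfsg.Agent.OrdDiv Cfsg.Agent.H436 Cfsg.Agent.H915.GN Cfsg.Agent.H264.FKS
open Cfsg.Agent.H278.El.AltNum (dimOf)
open scoped MatrixGroups

/-- the residual row for socles of Lie type in the characteristic of `T` -/
def CharRow : Prop := ∃ D : ℕ, ∀ (p : ℕ) (gT g : Grp) (T : Type) [Group T] [Finite T], p.Prime → IsNamed gT T →
  HasChar p gT → BigCl gT → D ≤ Nat.card T → ∀ (R : Subgroup T) (S : Subgroup R) [S.Normal], R ≠ ⊤ → IsSimpleGroup S →
  ¬ IsMulCommutative S → Subgroup.centralizer (S : Set R) = ⊥ → IsNamed g S → HasChar p g → Out gT R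

/-- the residual row for the other socles -/
def OtherRow : Prop := ∃ (N0 : ℕ) (B : ℕ → ℕ), ∀ (p : ℕ) (gT g : Grp) (T : Type) [Group T] [Finite T], p.Prime →
  IsNamed gT T → BigCl gT → HasChar p gT → ∀ (R : Subgroup T) (S : Subgroup R) [S.Normal], R ≠ ⊤ → IsSimpleGroup S →
  ¬ IsMulCommutative S → Subgroup.centralizer (S : Set R) = ⊥ → IsNamed g S → ¬ HasChar p g →
  ∀ (ι : Type) [Fintype ι] [DecidableEq ι] (F : Type) [Field F] [Finite F] [CharP F p] (H P : Subgroup (GL ι F)),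
  IsResidualCore H P → Nonempty (S ≃* P ⧸ (scalars ι F).subgroupOf P) → Fintype.card ι = dimOf gT →
  Nat.card R ≤ B (dimOf gT) ∧ (N0 ≤ dimOf gT → ∃ u, BigU gT u ∧ ¬ u ∣ Nat.card R)

/-- the names of the simple groups -/
def NameRow : Prop := ∀ (S : Type) [Group S] [Finite S] [IsSimpleGroup S], ¬ IsMulCommutative S → ∃ g, IsNamed g S

/-- the outcome -/
def Out2 (g : Grp) {T : Type*} [Group T] (R : Subgroup T) : Prop := Out g R ∨ BigPow g R

/-- **The residual class.** -/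
theorem res_out (hchar : CharRow) (hother : OtherRow) (hname : NameRow) : ∃ D : ℕ, ∀ (p : ℕ) (gT : Grp) (T : Type)
    [Group T] [Finite T], p.Prime → IsNamed gT T → BigCl gT → HasChar p gT → D ≤ Nat.card T → ∀ R : Subgroup T, R ≠ ⊤ →
    ∀ (ι : Type) [Fintype ι] [DecidableEq ι] (F : Type) [Field F] [Finite F] [CharP F p] (H P : Subgroup (GL ι F)),
    IsResidualCore H P → SocleOf R P → Fintype.card ι = dimOf gT → Out2 gT R := by
  obtain ⟨D1, hD1⟩ := hchar
  obtain ⟨N0, B, hB⟩ := hother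
  obtain ⟨D2, hD2⟩ := bigPow_of_card_le N0 ((Finset.range (N0 + 1)).sup B)
  refine ⟨max D1 D2, fun p gT T _ _ hp hT hcl hch hD R hR ι _ _ F _ _ _ H P hP hS hdim => ?_⟩
  obtain ⟨S, hSn, hSs, hna, hC, he⟩ := hS
  obtain ⟨g, hg⟩ := hname S hna
  by_cases hgp : HasChar p g
  · exact Or.inl (hD1 p gT g T hp hT hch hcl ((le_max_left _ _).trans hD) R S hR hSs hna hC hg hgp)
  · obtain ⟨h1, h2⟩ := hB p gT g T hp hT hcl hch R S hR hSs hna hC hg hgp ι F H P hP he hdim
    rcases Nat.lt_or_ge (dimOf gT) N0 with h3 | h3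
    · refine Or.inr (hD2 gT T hT hcl h3.le ((le_max_right _ _).trans hD) R (h1.trans ?_))
      exact Finset.le_sup (f := B) (Finset.mem_range.2 (by omega))
    · exact Or.inl (Or.inl (h2 h3))

theorem exists_char {F : Type*} [Field F] [Fintype F] : ∃ p f : ℕ, p.Prime ∧ CharP F p ∧ 1 ≤ f ∧
    Fintype.card F = p ^ f := by
  obtain ⟨p, hp⟩ := CharP.exists F
  obtain ⟨n, hn, h⟩ := FiniteField.card F p
  exact ⟨p, n, hn, hp, n.2, h⟩

section Named

variable (F : Type) [Field F] [Fintype F]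

theorem named_psl {n : ℕ} (hn : 2 ≤ n) (h2 : n = 2 → 4 ≤ Fintype.card F) :
    IsNamed (.psl n (Fintype.card F)) (Matrix.ProjectiveSpecialLinearGroup (Fin n) F) :=
  .mk' ⟨F, inferInstance, inferInstance, rfl, ⟨MulEquiv.refl _⟩⟩ ⟨hn, h2, Fintype.isPrimePow_card_of_field⟩ (psl_eq hn)

theorem named_psp {n : ℕ} (hn : 2 ≤ n) (h2 : n = 2 → 3 ≤ Fintype.card F) :
    IsNamed (.psp n (Fintype.card F)) (PSp n F) :=
  .mk' ⟨F, inferInstance, inferInstance, rfl, ⟨MulEquiv.refl _⟩⟩ ⟨hn, h2, Fintype.isPrimePow_card_of_field⟩ (psp_eq hn)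

theorem named_psu {n q : ℕ} (hF : Fintype.card F = q ^ 2) (hn : 3 ≤ n) (h2 : ¬ (n = 3 ∧ q = 2)) :
    IsNamed (.psu n q) (PSU n F q) := by
  have hq2 : IsPrimePow (q ^ 2) := hF ▸ Fintype.isPrimePow_card_of_field
  have hqp : IsPrimePow q := (isPrimePow_pow_iff (by norm_num)).1 hq2
  exact .mk' ⟨F, inferInstance, inferInstance, hF, ⟨MulEquiv.refl _⟩⟩ ⟨hn, h2, hqp⟩ (psu_eq hF hn)

theorem named_oodd {n : ℕ} (hn : 3 ≤ n) (ho : Odd (Fintype.card F)) :
    IsNamed (.oodd n (Fintype.card F)) (POmega F (quadFormOdd n F)) :=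
  .mk' ⟨F, inferInstance, inferInstance, rfl, ⟨MulEquiv.refl _⟩⟩ ⟨hn, ho, Fintype.isPrimePow_card_of_field⟩
    (oodd_eq hn ho)

theorem named_oplus {n : ℕ} (hn : 4 ≤ n) : IsNamed (.oplus n (Fintype.card F)) (POmega F (quadFormPlus n F)) :=
  .mk' ⟨F, inferInstance, inferInstance, rfl, ⟨MulEquiv.refl _⟩⟩ ⟨hn, Fintype.isPrimePow_card_of_field⟩
    (oplus_eq hn)

theorem named_ominus {n : ℕ} (hn : 4 ≤ n) {a b : F}
    (hab : ∀ z₁ z₂ : F, z₁ ^ 2 + a * z₁ * z₂ + b * z₂ ^ 2 = 0 → z₁ = 0 ∧ z₂ = 0) :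
    IsNamed (.ominus n (Fintype.card F)) (POmega F (quadFormMinus (n - 1) F a b)) :=
  .mk' ⟨F, inferInstance, inferInstance, a, b, rfl, hab, ⟨MulEquiv.refl _⟩⟩ ⟨hn, Fintype.isPrimePow_card_of_field⟩
    (ominus_eq hn hab)

end Named

/-- small `q ^ n` means small order -/
theorem big_of_card {g : Grp} {T : Type} [Group T] [Finite T] (hT : IsNamed g T) (hg : BigCl g) {r : ℕ}
    (hr : 2 * r + 1 ≥ dimOf g) (hD : (2 ^ 9) ^ 1000 ≤ Nat.card T) : 2 ^ 9 ≤ qOf g ^ r := by
  by_contra hcon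
  push Not at hcon
  have hq2 := qOf_ge hg hT.cond
  have h1 : r < 9 := by
    by_contra h
    push Not at h
    have := Nat.pow_le_pow_left hq2 r
    have := Nat.pow_le_pow_right (show 0 < 2 by norm_num) h
    omega
  have h0 : r ≠ 0 := by
    rintro rfl
    have h2 : 4 ≤ dimOf g := by
      cases g with
      | psl n q => exact hg
      | psu n q => exact hg
      | psp m q => have : 3 ≤ m := hg; change 4 ≤ 2 * m; omega
      | oodd m q => have : 3 ≤ m := hg; change 4 ≤ 2 * m + 1; omega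
      | oplus m q => have : 4 ≤ m := hg; change 4 ≤ 2 * m; omega
      | ominus m q => have : 4 ≤ m := hg; change 4 ≤ 2 * m; omega
      | _ => exact hg.elim
    omega
  have h2 : qOf g ≤ 2 ^ 9 := (Nat.le_self_pow h0 _).trans hcon.le
  have h3 := num_le hg hT.cond
  have h4 : Nat.card T ≤ num g := by
    rw [← hT.eq]
    exact Nat.le_mul_of_pos_left _ (den_pos hg hT.cond)
  have h5 : (dimOf g + 1) * (2 * dimOf g) ≤ 18 * 34 := Nat.mul_le_mul (by omega) (by omega)
  have h6 : qOf g ^ ((dimOf g + 1) * (2 * dimOf g)) ≤ (2 ^ 9) ^ (18 * 34) :=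
    (Nat.pow_le_pow_left h2 _).trans (Nat.pow_le_pow_right (by norm_num) h5)
  have h7 : (2 ^ 9) ^ (18 * 34) < (2 ^ 9) ^ 1000 := Nat.pow_lt_pow_right (by norm_num) (by norm_num)
  exact absurd ((hD.trans h4).trans (h3.trans h6)) (not_le.2 h7)

section rows

variable (hchar : CharRow) (hother : OtherRow) (hname : NameRow)

include hchar hother hname

/-- **`PSL_n(q)`.** -/
theorem out_psl : ∃ D : ℕ, ∀ (F : Type) [Field F] [Fintype F] (n : ℕ), 4 ≤ n →
    D ≤ Nat.card (Matrix.ProjectiveSpecialLinearGroup (Fin n) F) →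
    ∀ R : Subgroup (Matrix.ProjectiveSpecialLinearGroup (Fin n) F), IsCoatom R → Out2 (.psl n (Fintype.card F)) R := by
  obtain ⟨D, hD⟩ := res_out hchar hother hname
  refine ⟨max D ((2 ^ 9) ^ 1000), fun F _ _ n hn hc R hR => ?_⟩
  have hT := named_psl F (n := n) (by omega) (by omega)
  have hfin : Finite (Matrix.ProjectiveSpecialLinearGroup (Fin n) F) := Quotient.finite _
  have hb : 2 ^ 9 ≤ Fintype.card F ^ n := big_of_card hT (show 4 ≤ n from hn) (r := n)
    (show n ≤ 2 * n + 1 by omega) ((le_max_right _ _).trans hc)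
  rcases H855.Dg.geo_psl hn (by omega) hR with h | ⟨P, hP, -⟩
  · exact Or.inl h
  · obtain ⟨p, f, hp, hcp, -, hpf⟩ := exists_char (F := F)
    exact hD p (.psl n (Fintype.card F)) _ hp hT (show 4 ≤ n from hn) ⟨f, hpf⟩ ((le_max_left _ _).trans hc) R hR.1
      (Fin n) F _ P hP (exists_socle (Matrix.SpecialLinearGroup.toGL (n := Fin n) (R := F)) H304.PslT.toGL_injective
      (H304.PslT.pr n F) (QuotientGroup.mk'_surjective _)
      (fun x => (QuotientGroup.eq_one_iff x).trans (H304.PslT.center_iff (by omega))) hP) (Fintype.card_fin n)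

omit hchar hother hname in
theorem hker_sp {F : Type} [Field F] {m : ℕ} (x : Matrix.symplecticGroup (Fin m) F) :
    QuotientGroup.mk' (Subgroup.center (Matrix.symplecticGroup (Fin m) F)) x = 1 ↔
      Cfsg.Agent.H876.spToGL m F x ∈ scalars (Fin m ⊕ Fin m) F := by
  rw [show QuotientGroup.mk' (Subgroup.center (Matrix.symplecticGroup (Fin m) F)) x = 1 ↔
    x ∈ Subgroup.center (Matrix.symplecticGroup (Fin m) F) from QuotientGroup.eq_one_iff x]
  constructor
  · intro h
    obtain ⟨a, ha⟩ := (LieClassical.SympCenter.mem_center_iff m x).1 h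
    rcases isEmpty_or_nonempty (Fin m ⊕ Fin m) with hι | ⟨⟨i⟩⟩
    · have : Cfsg.Agent.H876.spToGL m F x = 1 := Units.ext (by ext i; exact (hι.false i).elim)
      rw [this]
      exact Subgroup.one_mem _
    · have ha0 : a ≠ 0 := by
        rintro rfl
        rw [zero_smul] at ha
        have h3 : (0 : Matrix (Fin m ⊕ Fin m) (Fin m ⊕ Fin m) F) = 1 := by
          have h1 : x.1 * (x⁻¹).1 = 1 := congrArg Subtype.val (mul_inv_cancel x)
          rw [ha, zero_mul] at h1
          exact h1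
        have h4 := congrFun (congrFun h3 i) i
        rw [Matrix.zero_apply, Matrix.one_apply_eq] at h4
        exact zero_ne_one h4
      refine ⟨Units.mk0 a ha0, Units.ext ?_⟩
      ext i j
      have h5 := congrFun (congrFun ha i) j
      change (Matrix.scalar (Fin m ⊕ Fin m) a) i j = x.1 i j
      rw [h5, Matrix.scalar_apply, Matrix.smul_apply, Matrix.diagonal_apply, Matrix.one_apply]
      split_ifs <;> simp
  · rintro ⟨u, hu⟩
    refine (LieClassical.SympCenter.mem_center_iff m x).2 ⟨(u : F), ?_⟩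
    have h1 := congrArg Units.val hu
    ext i j
    have h5 := congrFun (congrFun h1 i) j
    change (Matrix.scalar (Fin m ⊕ Fin m) (u : F)) i j = x.1 i j at h5
    rw [← h5, Matrix.scalar_apply, Matrix.smul_apply, Matrix.diagonal_apply, Matrix.one_apply]
    split_ifs <;> simp

/-- **`PSp_2m(q)`.** -/
theorem out_psp : ∃ D : ℕ, ∀ (F : Type) [Field F] [Fintype F] (m : ℕ), 3 ≤ m → D ≤ Nat.card (PSp m F) →
    ∀ R : Subgroup (PSp m F), R ≠ ⊤ → Out2 (.psp m (Fintype.card F)) R := by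
  obtain ⟨D, hD⟩ := res_out hchar hother hname
  refine ⟨max D ((2 ^ 9) ^ 1000), fun F _ _ n hn hc R hR => ?_⟩
  have hT := named_psp F (n := n) (by omega) (by omega)
  have hfin : Finite (PSp n F) := Quotient.finite _
  have hb : 2 ^ 9 ≤ Fintype.card F ^ n := big_of_card hT (show 3 ≤ n from hn) (r := n)
    (show 2 * n ≤ 2 * n + 1 by omega) ((le_max_right _ _).trans hc)
  rcases H621.Dg.geo_psp hn hb hR with h | ⟨P, hP, -⟩
  · exact Or.inl h
  · obtain ⟨p, f, hp, hcp, -, hpf⟩ := exists_char (F := F)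
    exact hD p (.psp n (Fintype.card F)) _ hp hT (show 3 ≤ n from hn) ⟨f, hpf⟩ ((le_max_left _ _).trans hc) R hR
      (Fin n ⊕ Fin n) F _ P hP (exists_socle (Cfsg.Agent.H876.spToGL n F) H262.El.spToGL_injective _
      (QuotientGroup.mk'_surjective _) hker_sp hP) (by
        rw [Fintype.card_sum, Fintype.card_fin]
        exact (two_mul n).symm)

/-- **`PSU_n(q)`.** -/
theorem out_psu : ∃ D : ℕ, ∀ (F : Type) [Field F] [Fintype F] (n q : ℕ), Fintype.card F = q ^ 2 → 4 ≤ n →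
    D ≤ Nat.card (PSU n F q) → ∀ R : Subgroup (PSU n F q), R ≠ ⊤ → Out2 (.psu n q) R := by
  obtain ⟨D, hD⟩ := res_out hchar hother hname
  refine ⟨max D ((2 ^ 9) ^ 1000), fun F _ _ n q hF hn hc R hR => ?_⟩
  have hT := named_psu F hF (n := n) (by omega) (by omega)
  have hfin : Finite (PSU n F q) := Quotient.finite _
  have hb : 2 ^ 9 ≤ q ^ n := big_of_card hT (show 4 ≤ n from hn) (r := n)
    (show n ≤ 2 * n + 1 by omega) ((le_max_right _ _).trans hc)
  rcases H621.Dg.geo_psu hF hn (by omega) R hR with h | ⟨P, hP, -⟩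
  · exact Or.inl h
  · obtain ⟨p, f, hp, hcp, hf1, hpf⟩ := exists_char (F := F)
    have hq : ∃ k, q = p ^ k := by
      have h1 : q ∣ p ^ f := by
        rw [← hpf, hF]
        exact dvd_pow_self q (by norm_num)
      obtain ⟨k, -, hk⟩ := (Nat.dvd_prime_pow hp).1 h1
      exact ⟨k, hk⟩
    exact hD p (.psu n q) _ hp hT (show 4 ≤ n from hn) hq ((le_max_left _ _).trans hc) R hR
      (Fin n) F _ P hP (exists_res_psu hF (by omega) hP) (Fintype.card_fin n)

/-- **`Ω_{2m+1}(q)`.** -/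
theorem out_oodd : ∃ D : ℕ, ∀ (F : Type) [Field F] [Fintype F] (m : ℕ), 3 ≤ m → Odd (Fintype.card F) →
    D ≤ Nat.card (POmega F (quadFormOdd m F)) →
    ∀ R : Subgroup (POmega F (quadFormOdd m F)), R ≠ ⊤ → Out2 (.oodd m (Fintype.card F)) R := by
  obtain ⟨D, hD⟩ := res_out hchar hother hname
  refine ⟨D, fun F _ _ n hn ho hc R hR => ?_⟩
  have hT := named_oodd F (n := n) (by omega) ho
  have hfin : Finite (POmega F (quadFormOdd n F)) := Quotient.finite _
  rcases H193.Dg.geo_oodd hn ho R with h | ⟨P, hP, -⟩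
  · exact Or.inl h
  · obtain ⟨p, f, hp, hcp, -, hpf⟩ := exists_char (F := F)
    exact hD p (.oodd n (Fintype.card F)) _ hp hT (show 3 ≤ n from hn) ⟨f, hpf⟩ hc R hR
      (Unit ⊕ (Fin n ⊕ Fin n)) F _ P hP (exists_res_odd hn ho (M := R) hP) (by
        rw [Fintype.card_sum, Fintype.card_sum, Fintype.card_fin, Fintype.card_unit]
        change 1 + (n + n) = 2 * n + 1
        omega)

/-- **`PΩ^+_{2m}(q)`.** -/
theorem out_oplus : ∃ D : ℕ, ∀ (F : Type) [Field F] [Fintype F] (m : ℕ), 4 ≤ m →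
    D ≤ Nat.card (POmega F (quadFormPlus m F)) →
    ∀ R : Subgroup (POmega F (quadFormPlus m F)), R ≠ ⊤ → Out2 (.oplus m (Fintype.card F)) R := by
  obtain ⟨D, hD⟩ := res_out hchar hother hname
  refine ⟨max D ((2 ^ 9) ^ 1000), fun F _ _ n hn hc R hR => ?_⟩
  have hT := named_oplus F (n := n) hn
  have hfin : Finite (POmega F (quadFormPlus n F)) := Quotient.finite _
  have hb : 2 ^ 9 ≤ Fintype.card F ^ n := big_of_card hT (show 4 ≤ n from hn) (r := n)
    (show 2 * n ≤ 2 * n + 1 by omega) ((le_max_right _ _).trans hc)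
  rcases H193.Dg.geo_oplus hn (fun h => by rw [h.1, h.2] at hb; norm_num at hb)
    (fun h => by rw [h.1, h.2] at hb; norm_num at hb) R with h | ⟨P, hP, -⟩
  · exact Or.inl h
  · obtain ⟨p, f, hp, hcp, -, hpf⟩ := exists_char (F := F)
    exact hD p (.oplus n (Fintype.card F)) _ hp hT (show 4 ≤ n from hn) ⟨f, hpf⟩ ((le_max_left _ _).trans hc) R hR
      (Fin n ⊕ Fin n) F _ P hP (exists_res_plus hn (M := R) hP) (by
        rw [Fintype.card_sum, Fintype.card_fin]
        exact (two_mul n).symm)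

/-- **`PΩ^-_{2m}(q)`.** -/
theorem out_ominus : ∃ D : ℕ, ∀ (F : Type) [Field F] [Fintype F] (m : ℕ) (a b : F), 4 ≤ m →
    (∀ z₁ z₂ : F, z₁ ^ 2 + a * z₁ * z₂ + b * z₂ ^ 2 = 0 → z₁ = 0 ∧ z₂ = 0) →
    D ≤ Nat.card (POmega F (quadFormMinus (m - 1) F a b)) →
    ∀ R : Subgroup (POmega F (quadFormMinus (m - 1) F a b)), R ≠ ⊤ → Out2 (.ominus m (Fintype.card F)) R := by
  obtain ⟨D, hD⟩ := res_out hchar hother hname
  refine ⟨D, fun F _ _ n a b hn hab hc R hR => ?_⟩
  have hT := named_ominus F (n := n) hn hab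
  have hfin : Finite (POmega F (quadFormMinus (n - 1) F a b)) := Quotient.finite _
  rcases H193.Dg.geo_ominus hn hab R with h | ⟨P, hP, -⟩
  · exact Or.inl h
  · obtain ⟨p, f, hp, hcp, -, hpf⟩ := exists_char (F := F)
    exact hD p (.ominus n (Fintype.card F)) _ hp hT (show 4 ≤ n from hn) ⟨f, hpf⟩ hc R hR
      ((Fin (n - 1) ⊕ Fin (n - 1)) ⊕ Fin 2) F _ P hP (exists_res_minus hn a b hab (M := R) hP) (by
        rw [Fintype.card_sum, Fintype.card_sum, Fintype.card_fin, Fintype.card_fin]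
        change n - 1 + (n - 1) + 2 = 2 * n
        omega)

end rows

end Cfsg.Agent.H851.Dg
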