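import Cfsg.Agent.H851.Dg.Tables
import Cfsg.Agent.H851.Dg.Act
import Cfsg.Agent.H383.Dg.Red
import Cfsg.Agent.H618.Dp.Row
import Cfsg.Agent.H716.Dg.Rows
import Cfsg.Agent.H982.DgPsl

/-!
# S5734: the bound for all almost simple groups and for all primitive groups which are not affine
-/

set_option autoImplicit false

namespace Cfsg.Agent.H851.Dg

open Cfsg.Agent.H545.Dr (AS)

universe u v

/-- **The classical groups of small rank.** -/
theorem smallRow : ConstRow SmallCl :=
  constRow_small H982.DgPsl.row_psl2 H716.Dg.row_psl3 H716.Dg.row_psu3 H618.Dp.row_psp4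

/-- **Derangements in almost simple groups.** -/
theorem as_simple : ∃ ε : ℝ, 0 < ε ∧ ∀ (T : Type u) [Group T] [Finite T] [IsSimpleGroup T],
    ¬ IsMulCommutative T → AS.{u, v} ε T :=
  as_all bdRow charRow otherRow nameRow twoRow smallRow excRow

/-- **Derangements in primitive groups without abelian normal subgroups.** -/
theorem main : ∃ ε : ℝ, 0 < ε ∧ ∀ (G : Type u) (Ω : Type v) [Group G] [Finite G] [MulAction G Ω] [FaithfulSMul G Ω]
    [Fintype Ω], MulAction.IsPreprimitive G Ω → (∀ N : Subgroup G, N.Normal → IsMulCommutative N → N = ⊥) →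
    2 ≤ Fintype.card Ω →
    ε / Real.log (Fintype.card Ω) * (Nat.card G : ℝ) ≤ Nat.card {g : G // ∀ ω : Ω, g • ω ≠ ω} := by
  obtain ⟨c, hc, h⟩ := as_simple.{u, u}
  obtain ⟨ε, hε, h2⟩ := H383.Dg.reduction.{u} hc fun T _ _ _ hna => row_of_as (h T fun hcom => by
    obtain ⟨a, b, hab⟩ := hna
    exact hab (hcom.is_comm.comm a b))
  exact ⟨ε, hε, fun G Ω _ _ _ _ _ hp hab hn => action_of h2 hp hab hn⟩

end Cfsg.Agent.H851.Dg
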