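import Cfsg.Agent.Lib.Zsigmondy

/-!
# S5734: for large `q` some prime power dividing `Φ_e(q)` is large
-/

set_option autoImplicit false

namespace Cfsg.Agent.H851.Dg

open Polynomial Cfsg.Agent.Lib.Zsigmondy

/-- the imprimitive primes divide `Φ_e(a)` at most once -/
theorem val_le_one {a n : ℕ} (ha : 2 ≤ a) (hn : 3 ≤ n) {r : ℕ} (hr : r.Prime)
    (hrN : r ∣ ((cyclotomic n ℤ).eval (a : ℤ)).natAbs) (hcon : orderOf (a : ZMod r) ≠ n) :
    r ∣ n ∧ padicValNat r ((cyclotomic n ℤ).eval (a : ℤ)).natAbs ≤ 1 := by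
  set N : ℕ := ((cyclotomic n ℤ).eval (a : ℤ)).natAbs with hN
  have hNgt : a - 1 < N := sub_one_lt_natAbs_cyclotomic_eval (by omega) (by omega)
  have := Fact.mk hr
  obtain ⟨k, m, hm, hnk⟩ := Nat.exists_eq_pow_mul_and_not_dvd (n := n) (by omega) r hr.ne_one
  have hroot : (cyclotomic (r ^ k * m) (ZMod r)).IsRoot (a : ZMod r) := by
    rw [← hnk]
    have h1 : (((cyclotomic n ℤ).eval (a : ℤ) : ℤ) : ZMod r) = 0 := by
      rw [ZMod.intCast_zmod_eq_zero_iff_dvd]
      exact Int.natCast_dvd.2 hrN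
    rw [IsRoot.def, ← map_cyclotomic_int n (ZMod r)]
    have h3 : (a : ZMod r) = (Int.castRingHom (ZMod r)) (a : ℤ) := by simp
    rw [h3, eval_map_apply]
    simpa using h1
  have : NeZero (m : ZMod r) := ⟨fun h => hm ((ZMod.natCast_eq_zero_iff m r).1 h)⟩
  rw [isRoot_cyclotomic_prime_pow_mul_iff_of_charP] at hroot
  have hord : orderOf (a : ZMod r) = m := hroot.eq_orderOf.symm
  have hm0 : 0 < m := Nat.pos_of_ne_zero (by rintro rfl; exact hm (dvd_zero r))
  obtain ⟨k, rfl⟩ : ∃ k', k = k' + 1 := by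
    cases k with
    | zero =>
      exfalso
      refine hcon ?_
      rw [hord, hnk]; simp
    | succ k => exact ⟨k, rfl⟩
  have hmr : m ∣ r - 1 := by
    rw [← hord]
    apply orderOf_dvd_pred hr
    intro hra
    have h0 : (a : ZMod r) = 0 := (ZMod.natCast_eq_zero_iff a r).2 hra
    have := hroot.pow_eq_one
    rw [h0, zero_pow hm0.ne'] at this
    exact zero_ne_one this
  have hrn : r ∣ n := by
    rw [hnk]
    exact Dvd.dvd.mul_right (dvd_pow_self r (Nat.succ_ne_zero k)) m
  refine ⟨hrn, ?_⟩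
  have hNval : ((cyclotomic n ℤ).eval (a : ℤ)) = (N : ℤ) := by
    rw [hN]
    refine (Int.natAbs_of_nonneg ?_).symm
    exact cyclotomic_nonneg n (by exact_mod_cast (by omega : 1 ≤ a))
  rcases Nat.lt_or_ge 2 r with hr2 | hr2
  swap
  · obtain rfl : r = 2 := le_antisymm hr2 hr.two_le
    have hm1 : m = 1 := Nat.dvd_one.1 (by simpa using hmr)
    subst hm1
    have hev : ((cyclotomic n ℤ).eval (a : ℤ)) = (a : ℤ) ^ 2 ^ k + 1 := by
      have := eval_cyclotomic_pow Nat.prime_two 1 k (a : ℤ)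
      rw [show n = 1 * 2 ^ (k + 1) by rw [hnk]; ring, this]
      simp [cyclotomic_two]
    have hNa : N = a ^ 2 ^ k + 1 := by
      have : (N : ℤ) = (a : ℤ) ^ 2 ^ k + 1 := by rw [← hNval, hev]
      exact_mod_cast this
    obtain ⟨k, rfl⟩ : ∃ k', k = k' + 1 := by
      cases k with
      | zero =>
        exfalso
        simp at hnk
        omega
      | succ k => exact ⟨k, rfl⟩
    have hsq : N = (a ^ 2 ^ k) ^ 2 + 1 := by rw [hNa, ← pow_mul, pow_succ]
    have h4 : ¬ 4 ∣ N := by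
      rw [hsq]
      intro h
      have h5 : ((a ^ 2 ^ k) ^ 2 + 1) % 4 = 0 := Nat.mod_eq_zero_of_dvd h
      have h6 : (a ^ 2 ^ k) % 4 < 4 := Nat.mod_lt _ (by norm_num)
      rw [Nat.add_mod, Nat.pow_mod] at h5
      interval_cases (a ^ 2 ^ k) % 4 <;> simp at h5
    by_contra h
    push Not at h
    refine h4 ((pow_dvd_pow 2 h).trans pow_padicValNat_dvd)
  · have hodd : Odd r := hr.odd_of_ne_two (by omega)
    have hdvd : ((a : ℤ) ^ (r ^ k * m) - 1) * (N : ℤ) ∣ (a : ℤ) ^ n - 1 := by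
      have hprop : r ^ k * m ∈ n.properDivisors := by
        rw [Nat.mem_properDivisors]
        refine ⟨⟨r, by rw [hnk]; ring⟩, ?_⟩
        rw [hnk]
        have : r ^ k * m < r ^ k * m * r := by
          have : 0 < r ^ k * m := Nat.mul_pos (pow_pos hr.pos k) hm0
          nlinarith
        calc r ^ k * m < r ^ k * m * r := this
          _ = r ^ (k + 1) * m := by ring
      have := X_pow_sub_one_mul_cyclotomic_dvd_X_pow_sub_one_of_dvd ℤ hprop
      have h' := eval_dvd (x := (a : ℤ)) this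
      simpa [hNval] using h'
    set c : ℕ := a ^ (r ^ k * m) with hc
    have hc1 : 1 < c := Nat.one_lt_pow (Nat.mul_pos (pow_pos hr.pos k) hm0).ne' (by omega)
    have hcr : a ^ n = c ^ r := by rw [hc, ← pow_mul, hnk]; congr 1; ring
    have hdvd' : (c - 1) * N ∣ c ^ r - 1 := by
      have h1 : (((c - 1) * N : ℕ) : ℤ) ∣ ((c ^ r - 1 : ℕ) : ℤ) := by
        rw [Nat.cast_mul, Nat.cast_sub hc1.le, Nat.cast_sub (Nat.one_le_pow _ _ (by omega)), ← hcr]
        push_cast
        simpa [hc] using hdvd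
      exact_mod_cast h1
    have hrc : r ∣ c - 1 := by
      rw [hc, dvd_pow_sub_one_iff (by omega), hord]
      exact Dvd.intro_left _ rfl
    have hrc' : ¬ r ∣ c := by
      intro h
      have : r ∣ 1 := by
        have h1 : c = (c - 1) + 1 := by omega
        rw [h1] at h
        exact (Nat.dvd_add_right hrc).1 h
      exact hr.one_lt.ne' (Nat.dvd_one.1 this)
    have hlte : padicValNat r (c ^ r - 1 ^ r) = padicValNat r (c - 1) + padicValNat r r :=
      padicValNat.pow_sub_pow hodd hc1 hrc hrc' hr.ne_zero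
    rw [one_pow, padicValNat_self] at hlte
    have hle : padicValNat r ((c - 1) * N) ≤ padicValNat r (c ^ r - 1) := by
      apply (padicValNat_dvd_iff_le (p := r) ?_).1
      · exact (pow_padicValNat_dvd).trans hdvd'
      · have : 1 < c ^ r := Nat.one_lt_pow hr.ne_zero hc1
        omega
    rw [padicValNat.mul (by omega) (by omega), hlte] at hle
    omega

/-- **Large primitive prime powers.** -/
theorem exists_pow_gt {e : ℕ} (he : 3 ≤ e) (B : ℕ) : ∃ Q : ℕ, ∀ q : ℕ, Q ≤ q → ∃ u j : ℕ, u.Prime ∧ 1 ≤ j ∧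
    orderOf (q : ZMod u) = e ∧ u ^ j ∣ q ^ e - 1 ∧ B < u ^ j := by
  set C := max B e + 1 with hC
  refine ⟨C ^ C + 2, fun q hq => ?_⟩
  by_contra hcon
  push Not at hcon
  set N : ℕ := ((cyclotomic e ℤ).eval (q : ℤ)).natAbs with hN
  have hNgt : q - 1 < N := sub_one_lt_natAbs_cyclotomic_eval (by omega) (by omega)
  have hNd : N ∣ q ^ e - 1 := by
    have h1 : cyclotomic e ℤ ∣ X ^ e - 1 := cyclotomic.dvd_X_pow_sub_one e ℤ
    have h2 := eval_dvd (x := (q : ℤ)) h1
    rw [eval_sub, eval_pow, eval_X, eval_one] at h2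
    have h3 : ((N : ℕ) : ℤ) ∣ ((q ^ e - 1 : ℕ) : ℤ) := by
      rw [Nat.cast_sub (Nat.one_le_pow _ _ (by omega)), hN]
      push_cast
      rwa [abs_dvd]
    exact_mod_cast h3
  have hb : ∀ r ∈ N.primeFactors, r ^ N.factorization r ≤ C := by
    intro r hr
    obtain ⟨hrp, hrN, hN0⟩ := Nat.mem_primeFactors.1 hr
    by_cases h : orderOf (q : ZMod r) = e
    · have h1 := hcon r (N.factorization r) hrp
        ((hrp.dvd_iff_one_le_factorization hN0).1 hrN) h ((Nat.ordProj_dvd N r).trans hNd)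
      exact h1.trans (by omega)
    · obtain ⟨h1, h2⟩ := val_le_one (by omega) he hrp hrN h
      have h3 : r ≤ e := Nat.le_of_dvd (by omega) h1
      rw [← Nat.factorization_def N hrp] at h2
      calc r ^ N.factorization r ≤ r ^ 1 := Nat.pow_le_pow_right hrp.pos h2
        _ = r := pow_one r
        _ ≤ C := by omega
  have hprod : N = ∏ r ∈ N.primeFactors, r ^ N.factorization r := by
    conv_lhs => rw [← Nat.prod_factorization_pow_eq_self (show N ≠ 0 by omega)]
    rfl
  have h1 : N ≤ C ^ N.primeFactors.card := by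
    conv_lhs => rw [hprod]
    exact Finset.prod_le_pow_card _ _ _ hb
  have h2 : N.primeFactors.card ≤ C := by
    have h3 : N.primeFactors ⊆ Finset.Icc 1 C := by
      intro r hr
      have hrp := (Nat.mem_primeFactors.1 hr)
      refine Finset.mem_Icc.2 ⟨hrp.1.one_le, ?_⟩
      calc r = r ^ 1 := (pow_one r).symm
        _ ≤ r ^ N.factorization r := Nat.pow_le_pow_right hrp.1.pos
          ((hrp.1.dvd_iff_one_le_factorization hrp.2.2).1 hrp.2.1)
        _ ≤ C := hb r hr
    have := Finset.card_le_card h3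
    rwa [Nat.card_Icc, Nat.add_sub_cancel] at this
  have h3 : N ≤ C ^ C := h1.trans (Nat.pow_le_pow_right (by omega) h2)
  omega

end Cfsg.Agent.H851.Dg
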